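import Mathlib
import Cfsg.Agent.Lib.WAb.Nine
import Cfsg.Agent.Lib.Gold.Cor1

/-!
# Groups whose 2-residual has Sylow 2-subgroups of order 4
-/

set_option autoImplicit false

namespace CfsgLib.Cl2

open Subgroup Cfsg CfsgLib.Tech CfsgLib.Core CfsgLib.Abel2 CfsgLib.Comp CfsgLib.WAb
open CfsgLib.BrPair (Cz Nz Ce)
open scoped MatrixGroups

universe u

variable {G : Type u} [Group G] [Finite G]

/-- the conclusion -/
def Concl (X : Type*) [Group X] : Prop :=
  Nonempty (X ≃* ↥(alternatingGroup (Fin 4))) ∨ Nonempty (X ≃* Equiv.Perm (Fin 4)) ∨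
    ∃ S : Subgroup X, S.Normal ∧ IsSimpleGroup ↥S ∧ ¬ IsMulCommutative ↥S ∧
      centralizer (S : Set X) = ⊥ ∧
      ∃ (F : Type) (_ : Field F) (_ : Fintype F), 3 < Fintype.card F ∧
        (Fintype.card F % 8 = 3 ∨ Fintype.card F % 8 = 5) ∧ Nonempty (↥S ≃* PSL(2, F))

theorem eq_bot_of_inf_sylow (hO : pPrimeCore 2 G = ⊥) (P : Sylow 2 G) (N : Subgroup G) [N.Normal]
    (h : N ⊓ P = ⊥) : N = ⊥ :=
  eq_bot_iff.2 (hO ▸ le_pPrimeCore ((Nat.Prime.coprime_iff_not_dvd Nat.prime_two).2
    (Transfer.not_dvd_card_of_inf_sylow_eq_bot P N h)).symm)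

theorem le_center_of (P : Sylow 2 G)
    (hW : ∀ W : Subgroup G, W.Normal → W ≤ P → W ⊓ pResidual 2 G = ⊥ → W ≤ Cz (P : Subgroup G))
    (W : Subgroup G) [hn : W.Normal] (h : W ⊓ pResidual 2 G = ⊥) : W ≤ center G := by
  have := Transfer.pResidual_normal 2 G
  have h1 : IsPGroup 2 W := (Transfer.isPGroup_quotient_pResidual (p := 2) (G := G)).of_injective
    ((QuotientGroup.mk' (pResidual 2 G)).comp W.subtype) (by
      rw [← MonoidHom.ker_eq_bot_iff, ← MonoidHom.comap_ker, QuotientGroup.ker_mk']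
      exact subgroupOf_eq_bot.2 (disjoint_iff.2 ((inf_comm _ _).trans h)))
  have h2 := hW W hn (IsPGroup.le_sylow_of_normal h1 P) h
  refine centralizer_eq_top_iff_subset.1 ?_
  rw [eq_top_iff, ← Transfer.pResidual_sup_sylow P]
  refine sup_le (fun k hk w hw => ?_) (le_centralizer_iff.1 h2)
  exact commute_of_normal_of_disjoint W _ hn this (disjoint_iff.2 h) w k hw hk

theorem concl_of_twelve (hO : pPrimeCore 2 G = ⊥) (h12 : Nat.card (pResidual 2 G) = 12)
    (hW : ∀ W : Subgroup G, W.Normal → W ⊓ pResidual 2 G = ⊥ → W ≤ center G) :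
    Concl (G ⧸ center G) := by
  classical
  have : Fact (Nat.Prime 3) := ⟨Nat.prime_three⟩
  have := Transfer.pResidual_normal 2 G
  set K := pResidual 2 G
  obtain ⟨S⟩ : Nonempty (Sylow 3 G) := inferInstance
  have odd : ∀ N : Subgroup G, N.Normal → Nat.card N ∣ Nat.card (S : Subgroup G) → N = ⊥ :=
    fun N _ h => eq_bot_iff.2 (hO ▸ le_pPrimeCore (Nat.Coprime.coprime_dvd_left h (by
      obtain ⟨k, hk⟩ := S.isPGroup'.exists_card_eq
      rw [hk]; exact Nat.Coprime.pow_left _ (by norm_num))))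
  have hSK : (S : Subgroup G) ≤ K := Transfer.le_pResidual_of_coprime (by
    obtain ⟨k, hk⟩ := S.isPGroup'.exists_card_eq
    rw [hk]; exact Nat.Coprime.pow_left _ (by norm_num))
  have h3 : Nat.card (S : Subgroup G) = 3 := by
    rw [(IsSylowIn.of_sylow S hSK).card_eq_pow, h12,
      show 12 = 3 * 4 from rfl, Nat.factorization_mul (by norm_num) (by norm_num)]
    simp [Nat.Prime.factorization Nat.prime_three,
      Nat.factorization_eq_zero_of_not_dvd (show ¬ 3 ∣ 4 by norm_num)]
  have hle : (S : Subgroup G) ≤ Nz (S : Subgroup G) ⊓ K := le_inf le_normalizer hSK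
  have h1 : Nat.card (Sylow 3 G) * Nat.card ↥(Nz (S : Subgroup G) ⊓ K) = 12 := by
    have e1 := card_sup_mul_card_inf_of_normal (Nz (S : Subgroup G)) K
    rw [sup_comm, frattini_sup S K hSK, card_top, ← (Nz (S : Subgroup G)).index_mul_card, h12,
      mul_right_comm, mul_comm] at e1
    rw [S.card_eq_index_normalizer]
    exact Nat.eq_of_mul_eq_mul_left Nat.card_pos e1
  have h4 : Nat.card (Sylow 3 G) = 4 := by
    have e1 : Nat.card (Sylow 3 G) ≠ 1 := fun e1 => by
      rw [S.card_eq_index_normalizer, index_eq_one] at e1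
      have := odd S (normalizer_eq_top_iff.1 e1) dvd_rfl
      rw [this, card_bot] at h3
      omega
    have e2 := card_sylow_modEq_one 3 G
    have e3 := card_le_of_le hle
    unfold Nat.ModEq at e2
    have e4 := Nat.le_of_dvd (by norm_num) (Dvd.intro _ h1)
    generalize Nat.card (Sylow 3 G) = m at *
    interval_cases m <;> omega
  let φ := (Finite.equivFinOfCardEq h4).permCongrHom.toMonoidHom.comp
    (MulAction.toPermHom G (Sylow 3 G))
  have hk : φ.ker = (MulAction.toPermHom G (Sylow 3 G)).ker := by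
    rw [← MonoidHom.comap_ker, (MonoidHom.ker_eq_bot_iff _).2 (MulEquiv.injective _),
      MonoidHom.comap_bot]
  have h5 : φ.ker ⊓ K = ⊥ := odd _ inferInstance (by
    rw [h3, show 3 = Nat.card ↥(Nz (S : Subgroup G) ⊓ K) by rw [h4] at h1; omega]
    refine card_dvd_of_le (inf_le_inf_right _ fun g hg => ?_)
    rw [hk, MonoidHom.mem_ker] at hg
    exact Sylow.smul_eq_iff_mem_normalizer.1 (congrFun (congrArg (↑) hg) S))
  have h6 : φ.ker = center G := le_antisymm (hW _ inferInstance h5) fun g hg => by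
    rw [hk, MonoidHom.mem_ker]
    ext T : 1
    exact Sylow.smul_eq_iff_mem_normalizer.2 (center_le_normalizer _ hg)
  have e := (QuotientGroup.quotientMulEquivOfEq h6.symm).trans
    (QuotientGroup.quotientKerEquivRange φ)
  have h7 := card_map_mul_card_inf_ker φ K
  rw [inf_comm, h5, card_bot, h12, mul_one] at h7
  have h8 := card_dvd_of_le (map_le_range φ K)
  have h9 := φ.range.index_mul_card
  rw [Nat.card_perm, Nat.card_fin] at h9
  obtain ⟨m, hm⟩ := h7 ▸ h8
  rw [hm, show Nat.factorial 4 = 24 from rfl] at h9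
  obtain h10 | h10 : φ.range.index = 1 ∨ φ.range.index = 2 :=
    (Nat.dvd_prime Nat.prime_two).1 ⟨m, by linarith⟩
  · exact Or.inr (Or.inl ⟨e.trans ((MulEquiv.subgroupCongr (index_eq_one.1 h10)).trans topEquiv)⟩)
  · exact Or.inl ⟨e.trans (MulEquiv.subgroupCongr
      (Equiv.Perm.eq_alternatingGroup_of_index_eq_two h10))⟩

theorem concl_of_four (hO : pPrimeCore 2 G = ⊥) (P : Sylow 2 G)
    (h4 : Nat.card ↥((P : Subgroup G) ⊓ pResidual 2 G) = 4)
    (hW : ∀ W : Subgroup G, W.Normal → W ≤ P → W ⊓ pResidual 2 G = ⊥ → W ≤ Cz (P : Subgroup G)) :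
    Concl (G ⧸ center G) := by
  have hK := Transfer.pResidual_normal 2 G
  have hW' := fun W (hn : W.Normal) => le_center_of P hW W (hn := hn)
  obtain ⟨Q, hQ⟩ := Transfer.exists_sylow_subgroupOf_normal P (pResidual 2 G)
  have hQ4 : Nat.card (Q : Subgroup (pResidual 2 G)) = 4 := by rw [hQ, card_subgroupOf, h4]
  have hab := ab2_of_sylow Q (IsPGroup.isMulCommutative_of_card_eq_prime_sq (p := 2) hQ4)
  have hOK := core_comp hO hK.isSubnormal
  by_cases hE : layer (pResidual 2 G) = ⊥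
  · refine concl_of_twelve hO ?_ hW'
    have h1 := sylow_eq_pCore hab hOK hE Q
    have hn : (Q : Subgroup (pResidual 2 G)).Normal := h1 ▸ pCore_normal 2 _
    have hC : Cz (Q : Subgroup (pResidual 2 G)) ≤ Q := by
      rw [h1]
      exact fstar_eq_pCore_iff.1 (fstar_eq_pCore_iff'.2 ⟨hE, hOK⟩)
    have h2 := ee_dvd_six hQ4
    rw [ee, le_antisymm hC (le_Cz_of_comm (hab Q)), Nz, normalizer_eq_top, relIndex_top_right] at h2
    have h3 := Q.not_dvd_index
    have h5 : (Q : Subgroup (pResidual 2 G)).index ≠ 1 := fun e => by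
      have e1 := Transfer.pResidual_le_of_index (p := 2) (k := 2)
        (N := (⊥ : Subgroup (pResidual 2 G))) (by
        rw [index_bot, ← (Q : Subgroup (pResidual 2 G)).index_mul_card, e, hQ4]; norm_num)
      rw [Transfer.pResidual_pResidual] at e1
      rw [le_bot_iff.1 (le_top.trans e1 : (Q : Subgroup (pResidual 2 G)) ≤ ⊥), card_bot] at hQ4
      omega
    rw [← (Q : Subgroup (pResidual 2 G)).index_mul_card, hQ4]
    have := Nat.le_of_dvd (by norm_num) h2
    generalize (Q : Subgroup (pResidual 2 G)).index = m at *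
    interval_cases m <;> omega
  obtain ⟨L, hL⟩ := layer_ne_bot_iff.1 hE
  replace hL : IsComponent L := hL
  have h1 : ∀ X, IsComponent X → (Q : Subgroup (pResidual 2 G)) ≤ X := fun X hX =>
    inf_eq_left.1 (eq_of_le_of_card_le inf_le_left (hQ4 ▸ comp_four_le hab hOK hX Q))
  have h2 : (Q : Subgroup (pResidual 2 G)) ⊓ Cz L = ⊥ := by
    rw [eq_bot_iff, ← comp_inf_centralizer hab hOK hL]
    exact inf_le_inf_right _ (h1 L hL)
  have h3 : layer (pResidual 2 G) = L := le_antisymm (layer_le_iff.2 fun X hX => by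
    by_contra e
    have := (h1 X hX).trans (comp_le_centralizer_of_ne hX hL fun e' => e e'.le)
    rw [inf_eq_left.2 this] at h2
    rw [h2, card_bot] at hQ4
    omega) (comp_le_layer hL)
  have hLc : L.Characteristic := h3 ▸ layer_characteristic
  have h5 : Cz L = ⊥ := eq_bot_of_inf_sylow hOK Q _ ((inf_comm _ _).trans h2)
  have hg := good_comp hab hOK hL
  set L' := L.map (pResidual 2 G).subtype with hL'
  have h6 : Cz L' = center G := le_antisymm (hW' _ inferInstance (eq_bot_iff.2 fun g hg => by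
    have : (⟨g, hg.2⟩ : pResidual 2 G) ∈ Cz L := fun l hl => Subtype.ext (hg.1 l ⟨l, hl, rfl⟩)
    rw [h5, mem_bot] at this
    exact congrArg Subtype.val this)) (center_le_centralizer _)
  have h7 : L' ⊓ center G = ⊥ := eq_bot_iff.2 <| by
    rintro _ ⟨⟨l, hl, rfl⟩, h⟩
    have : l ∈ Cz L := fun x _ => Subtype.ext (mem_center_iff.1 h x)
    rw [h5, mem_bot] at this
    simp [this]
  have e : L ≃* L'.map (QuotientGroup.mk' (center G)) :=
    (L.equivMapOfInjective _ (subtype_injective _)).trans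
      (MulEquiv.ofBijective ((QuotientGroup.mk' (center G)).subgroupMap L')
        ⟨(injective_iff_map_eq_one _).2 fun x hx => Subtype.ext (mem_bot.1 (h7 ▸
          ⟨x.2, (QuotientGroup.eq_one_iff _).1 (congrArg Subtype.val hx)⟩)),
          MonoidHom.subgroupMap_surjective _ _⟩)
  obtain ⟨F, _, _, a1, a2, ⟨e'⟩⟩ := Gold.Cor.pslOdd_mod hg.ab2 (hg.four (Q.subtype (h1 L hL)) (by
    rw [Sylow.coe_subtype, card_subgroupOf_of_le (h1 L hL), hQ4])).2
  have := hg.simple
  refine Or.inr (Or.inr ⟨_, Normal.map inferInstance _ (QuotientGroup.mk'_surjective _),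
    e.symm.isSimpleGroup, fun h => hg.ncomm (isMulCommutative_iff.2 fun a b => e.injective (by
      rw [map_mul, map_mul, mul_comm'])), eq_bot_iff.2 fun g hg => ?_, F, _, _, by omega, a2,
    ⟨e.symm.trans e'⟩⟩)
  obtain ⟨g, rfl⟩ := QuotientGroup.mk'_surjective _ g
  refine (QuotientGroup.eq_one_iff _).2 (h6 ▸ fun l hl => ?_)
  have a3 := hg _ ⟨l, hl, rfl⟩
  rw [← mul_inv_eq_one, ← map_mul, ← map_mul, ← map_inv, ← map_mul] at a3
  rw [← mul_inv_eq_one, ← mem_bot, ← h7]
  refine ⟨?_, (QuotientGroup.eq_one_iff _).1 a3⟩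
  rw [mul_inv_rev, mul_assoc, ← mul_assoc g]
  exact mul_mem hl (Normal.conj_mem inferInstance _ (inv_mem hl) g)

end CfsgLib.Cl2
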