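import Mathlib
import Cfsg.Agent.Lib.Transfer.Abelian
import Cfsg.Agent.Lib.Transfer.Thompson
import Cfsg.Agent.Lib.DihSyl.Basic
import Cfsg.Prelude.Def_TwoFusion

/-!
# Fusion in Sylow 2-subgroups with commutator subgroup of order 2
-/

set_option autoImplicit false

namespace CfsgLib.Cl2

open Subgroup Cfsg CfsgLib.Tech CfsgLib.Core

variable {G : Type*} [Group G]

/-- the centre of `P` -/
abbrev Zp (P : Sylow 2 G) : Subgroup G :=
  (P : Subgroup G) ⊓ centralizer ((P : Subgroup G) : Set G)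

/-- the centralizer of `t` in `P` -/
abbrev Ap (P : Sylow 2 G) (t : G) : Subgroup G := (P : Subgroup G) ⊓ centralizer ({t} : Set G)

/-- `P' = ⟨z⟩` has order 2. -/
structure Cfg (P : Sylow 2 G) (z : G) : Prop where
  ne : z ≠ 1
  comm : ∀ a ∈ (P : Subgroup G), ∀ b ∈ (P : Subgroup G), a * b = b * a ∨ a * b * a⁻¹ = z * b
  ex : ∃ a ∈ (P : Subgroup G), ∃ b ∈ (P : Subgroup G), a * b * a⁻¹ = z * b

variable {P : Sylow 2 G} {z : G}

theorem mem_Ap {t a : G} : a ∈ Ap P t ↔ a ∈ (P : Subgroup G) ∧ a * t = t * a :=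
  and_congr_right fun _ => mem_centralizer_singleton_iff

theorem mem_Zp {c : G} :
    c ∈ Zp P ↔ c ∈ (P : Subgroup G) ∧ ∀ a ∈ (P : Subgroup G), a * c = c * a := Iff.rfl

theorem Zp_le_Ap {t : G} (ht : t ∈ (P : Subgroup G)) : Zp P ≤ Ap P t :=
  fun _ hc => mem_Ap.2 ⟨hc.1, (hc.2 t ht).symm⟩

theorem self_mem_Ap {t : G} (ht : t ∈ (P : Subgroup G)) : t ∈ Ap P t := mem_Ap.2 ⟨ht, rfl⟩

theorem conj_mem_Zp {n c : G} (hn : n ∈ normalizer ((P : Subgroup G) : Set G)) (hc : c ∈ Zp P) :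
    n * c * n⁻¹ ∈ Zp P :=
  ⟨conj_mem_of_mem_normalizer hn hc.1,
    conj_mem_of_mem_normalizer (normalizer_le_normalizer_centralizer _ hn) hc.2⟩

namespace Cfg

variable (h : Cfg P z)
include h

theorem norm_fix {n : G} (hn : n ∈ normalizer ((P : Subgroup G) : Set G)) : n * z * n⁻¹ = z := by
  obtain ⟨a, ha, b, hb, e⟩ := h.ex
  have e1 : z = a * b * a⁻¹ * b⁻¹ := by rw [e]; group
  rcases h.comm _ (conj_mem_of_mem_normalizer hn ha) _ (conj_mem_of_mem_normalizer hn hb) with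
    e2 | e2
  · refine absurd ?_ h.ne
    calc z = n⁻¹ * (n * a * n⁻¹ * (n * b * n⁻¹)) * n * a⁻¹ * b⁻¹ := by rw [e1]; group
      _ = 1 := by rw [e2]; group
  · calc n * z * n⁻¹ = n * a * n⁻¹ * (n * b * n⁻¹) * (n * a * n⁻¹)⁻¹ * (n * b * n⁻¹)⁻¹ := by
          rw [e1]; group
      _ = z := by rw [e2]; group

theorem mem : z ∈ Zp P := by
  obtain ⟨a, ha, b, hb, e⟩ := h.ex
  refine ⟨?_, fun x hx => mul_inv_eq_iff_eq_mul.1 (h.norm_fix (le_normalizer hx))⟩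
  rw [← mul_inv_eq_iff_eq_mul] at e
  have := mul_mem (mul_mem (mul_mem ha hb) (inv_mem ha)) (inv_mem hb)
  rwa [e] at this

theorem sq : z * z = 1 := by
  obtain ⟨a, ha, b, hb, e⟩ := h.ex
  rcases h.comm b hb a ha with e2 | e2
  · refine absurd ?_ h.ne
    calc z = a * b * a⁻¹ * b⁻¹ := by rw [e]; group
      _ = 1 := by rw [← e2]; group
  · calc z * z = z * a * b * (a⁻¹ * b⁻¹) := by
          rw [mul_assoc z a, mul_assoc, ← mul_assoc (a * b), e]; group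
      _ = z * a * (b * a⁻¹ * b⁻¹) := by group
      _ = z * a * (b * a * b⁻¹)⁻¹ := by group
      _ = 1 := by rw [e2]; group

theorem inv : z⁻¹ = z := inv_eq_of_mul_eq_one_right h.sq

theorem zmul_ne (a : G) : z * a ≠ a := fun e => h.ne (mul_eq_right.1 e)

theorem conj_eq {a b : G} (ha : a ∈ (P : Subgroup G)) (hb : b ∈ (P : Subgroup G))
    (hn : a * b ≠ b * a) : a * b * a⁻¹ = z * b := (h.comm a ha b hb).resolve_left hn

theorem mul_comm_of_ne {a b t : G} (ha : a ∈ (P : Subgroup G)) (hb : b ∈ (P : Subgroup G))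
    (ht : t ∈ (P : Subgroup G)) (h1 : a * t ≠ t * a) (h2 : b * t ≠ t * b) :
    a * b * t = t * (a * b) := by
  rw [← mul_inv_eq_iff_eq_mul]
  calc a * b * t * (a * b)⁻¹ = a * (b * t * b⁻¹) * a⁻¹ := by group
    _ = z * (a * t * a⁻¹) := by rw [h.conj_eq hb ht h2, ← mul_assoc, h.mem.2 a ha]; group
    _ = t := by rw [h.conj_eq ha ht h1, ← mul_assoc, h.sq, one_mul]

theorem sq_mem {a : G} (ha : a ∈ (P : Subgroup G)) : a * a ∈ Zp P :=
  ⟨mul_mem ha ha, fun t ht => by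
    by_cases e : a * t = t * a
    · rw [← mul_assoc, ← e, mul_assoc, ← e, mul_assoc]
    · exact (h.mul_comm_of_ne ha ha ht e e).symm⟩

theorem relIndex_Ap {t : G} (ht : t ∈ (P : Subgroup G)) (ht' : t ∉ Zp P) :
    (Ap P t).relIndex P = 2 := by
  obtain ⟨s, hs, e⟩ := not_forall₂.1 fun e => ht' ⟨ht, e⟩
  refine relIndex_eq_two_iff_exists_notMem_and.2 ⟨s, hs, fun e' => e (mem_Ap.1 e').2,
    fun b hb => or_iff_not_imp_right.2 fun e' => mem_Ap.2 ⟨mul_mem hb hs,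
      h.mul_comm_of_ne hb hs ht (fun e'' => e' (mem_Ap.2 ⟨hb, e''⟩)) e⟩⟩

theorem conj_mem_Ap {t a s : G} (ht : t ∈ (P : Subgroup G)) (ha : a ∈ Ap P t)
    (hs : s ∈ (P : Subgroup G)) : s * a * s⁻¹ ∈ Ap P t := by
  rcases h.comm s hs a ha.1 with e | e
  · rwa [e, mul_inv_cancel_right]
  · exact e ▸ mul_mem (Zp_le_Ap ht h.mem) ha

theorem mem_Zp_of_comm {t a s : G} (ht : t ∈ (P : Subgroup G))
    (hA : ∀ x ∈ Ap P t, ∀ y ∈ Ap P t, x * y = y * x) (ha : a ∈ Ap P t)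
    (hs : s ∈ (P : Subgroup G)) (hs' : s * t ≠ t * s) (e : s * a = a * s) : a ∈ Zp P := by
  refine ⟨ha.1, fun x hx => ?_⟩
  by_cases e1 : x * t = t * x
  · exact hA x (mem_Ap.2 ⟨hx, e1⟩) a ha
  · have := hA _ (mem_Ap.2 ⟨mul_mem hx hs, h.mul_comm_of_ne hx hs ht e1 hs'⟩) a ha
    rw [mul_assoc, e, ← mul_assoc, ← mul_assoc] at this
    exact mul_right_cancel this

variable [Finite G]

theorem le_normalizer_Ap {t : G} (ht : t ∈ (P : Subgroup G)) :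
    (P : Subgroup G) ≤ normalizer (Ap P t : Set G) :=
  fun _ hs => mem_normalizer_of_forall fun _ ha => h.conj_mem_Ap ht ha hs

theorem eq_of_conj {g : G} (hg : g * z * g⁻¹ ∈ Zp P) : g * z * g⁻¹ = z := by
  obtain ⟨u, hu, e⟩ := Transfer.exists_normalizer_conj_of_mem_centralizer P h.mem.2 hg.2
  rw [e, h.norm_fix hu]

omit h in
theorem exists_cj_le {x c g : G} (hc : c ∈ Zp P) (e : g * x * g⁻¹ = c) :
    ∃ k, k * x * k⁻¹ = c ∧ cj k (Ap P x) ≤ P := by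
  obtain ⟨d, hd, h1⟩ := (IsSylowIn.of_sylow P (H := centralizer {c}) fun a ha =>
    mem_centralizer_singleton_iff.2 (hc.2 a ha)).exists_cj_le
    (isPGroup_cj g (P.isPGroup'.to_le (inf_le_left : Ap P x ≤ P)))
    (by rw [← e, ← cj_centralizer_singleton]; exact cj_mono g inf_le_right)
  refine ⟨d * g, ?_, by rwa [cj_mul]⟩
  calc d * g * x * (d * g)⁻¹ = d * (g * x * g⁻¹) * d⁻¹ := by group
    _ = c := by rw [e, mem_centralizer_singleton_iff.1 hd]; group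

theorem comm_Ap_of_conj {g : G} (hne : g * z * g⁻¹ ≠ z) :
    ∀ x ∈ Ap P (g * z * g⁻¹), ∀ y ∈ Ap P (g * z * g⁻¹), x * y = y * x := by
  obtain ⟨k, e, h1⟩ := exists_cj_le (x := g * z * g⁻¹) (g := g⁻¹) h.mem (by group)
  intro x hx y hy
  by_contra hn
  have e1 := h.conj_eq hx.1 hy.1 hn
  rcases h.comm _ (cj_le_iff.1 h1 x hx) _ (cj_le_iff.1 h1 y hy) with e2 | e2
  · apply hn
    calc x * y = k⁻¹ * (k * x * k⁻¹ * (k * y * k⁻¹)) * k := by group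
      _ = y * x := by rw [e2]; group
  · apply hne
    calc g * z * g⁻¹ = k⁻¹ * (k * (g * z * g⁻¹) * k⁻¹ * (k * y * k⁻¹)) * k * y⁻¹ := by group
      _ = x * y * x⁻¹ * y⁻¹ := by rw [e, ← e2]; group
      _ = z := by rw [e1]; group

end Cfg

/-- `P' = ⟨z⟩` and `z` is not isolated. -/
structure NI (P : Sylow 2 G) (z : G) : Prop extends Cfg P z where
  ni : ∃ g, g * z * g⁻¹ ∈ (P : Subgroup G) ∧ g * z * g⁻¹ ≠ z

/-- `t` is conjugate to `z` in the normalizer of its centralizer. -/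
structure Act (P : Sylow 2 G) (z t k : G) : Prop where
  mem : t ∈ (P : Subgroup G)
  nmem : t ∉ Zp P
  norm : k ∈ normalizer (Ap P t : Set G)
  eq : k * z * k⁻¹ = t

/-- the largest strongly closed subgroup in the centre -/
def C0 (P : Sylow 2 G) : Subgroup G :=
  Zp P ⊓ ⨅ y ∈ (P : Subgroup G), ⨅ _ : y ∉ Zp P, ⨅ k ∈ normalizer (Ap P y : Set G),
    cj k⁻¹ (Zp P)

theorem mem_C0 {c : G} : c ∈ C0 P ↔ c ∈ Zp P ∧ ∀ y ∈ (P : Subgroup G), y ∉ Zp P →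
    ∀ k ∈ normalizer (Ap P y : Set G), k * c * k⁻¹ ∈ Zp P := by
  simp only [C0, mem_inf (p := Zp P), mem_iInf, mem_cj, inv_inv]

namespace NI

variable [Finite G] (h : NI P z)
include h

theorem four {t a : G} (ht : t ∈ (P : Subgroup G)) (ht' : t ∉ Zp P) (ha : a ∈ Ap P t)
    (ha' : a ∉ Zp P) : a * t ∈ Zp P := by
  obtain ⟨g, hg, hne⟩ := h.ni
  have hA := h.comm_Ap_of_conj hne
  have hg' : g * z * g⁻¹ ∉ Zp P := fun e => hne (h.eq_of_conj e)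
  generalize g * z * g⁻¹ = t₀ at *
  have e := (mem_Ap.1 ha).2
  by_cases h1 : t * t₀ = t₀ * t
  · have h2 : a * t₀ = t₀ * a := by
      by_contra h2
      exact ht' (h.mem_Zp_of_comm hg hA (mem_Ap.2 ⟨ht, h1⟩) ha.1 h2 e)
    obtain ⟨s, hs, e1⟩ := not_forall₂.1 fun e => hg' ⟨hg, e⟩
    refine h.mem_Zp_of_comm hg hA (mul_mem (mem_Ap.2 ⟨ha.1, h2⟩) (mem_Ap.2 ⟨ht, h1⟩)) hs e1
      (h.mul_comm_of_ne ha.1 ht hs (fun e2 => ha' ?_) (fun e2 => ht' ?_)).symm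
    · exact h.mem_Zp_of_comm hg hA (mem_Ap.2 ⟨ha.1, h2⟩) hs e1 e2.symm
    · exact h.mem_Zp_of_comm hg hA (mem_Ap.2 ⟨ht, h1⟩) hs e1 e2.symm
  · have h2 : a * t₀ ≠ t₀ * a := fun h2 =>
      ha' (h.mem_Zp_of_comm hg hA (mem_Ap.2 ⟨ha.1, h2⟩) ht h1 e.symm)
    exact h.mem_Zp_of_comm hg hA (mem_Ap.2 ⟨mul_mem ha.1 ht, h.mul_comm_of_ne ha.1 ht hg h2 h1⟩)
      ht h1 (by rw [← mul_assoc, e])

theorem comm_Ap {t : G} (ht : t ∈ (P : Subgroup G)) (ht' : t ∉ Zp P) :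
    ∀ x ∈ Ap P t, ∀ y ∈ Ap P t, x * y = y * x := by
  intro x hx y hy
  by_cases h1 : x ∈ Zp P
  · exact (h1.2 y hy.1).symm
  · have e := (h.four ht ht' hx h1).2 y hy.1
    rw [← mul_assoc, mul_assoc x, ← (mem_Ap.1 hy).2, ← mul_assoc] at e
    exact (mul_right_cancel e).symm

theorem Ap_eq {t a : G} (ht : t ∈ (P : Subgroup G)) (ht' : t ∉ Zp P) (ha : a ∈ Ap P t)
    (ha' : a ∉ Zp P) : Ap P a = Ap P t :=
  le_antisymm (fun x hx => mem_Ap.2 ⟨hx.1, h.comm_Ap ha.1 ha' x hx t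
    (mem_Ap.2 ⟨ht, (mem_Ap.1 ha).2.symm⟩)⟩) fun x hx => mem_Ap.2 ⟨hx.1, h.comm_Ap ht ht' x hx a ha⟩

theorem mul_mem_Zp {t a b : G} (ht : t ∈ (P : Subgroup G)) (ht' : t ∉ Zp P) (ha : a ∈ Ap P t)
    (ha' : a ∉ Zp P) (hb : b ∈ Ap P t) (hb' : b ∉ Zp P) : a * b ∈ Zp P :=
  h.four hb.1 hb' (h.Ap_eq ht ht' hb hb' ▸ ha) ha'

theorem relIndex_Zp {t : G} (ht : t ∈ (P : Subgroup G)) (ht' : t ∉ Zp P) :
    (Zp P).relIndex (Ap P t) = 2 :=
  relIndex_eq_two_iff_exists_notMem_and.2 ⟨t, self_mem_Ap ht, ht',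
    fun _ hb => or_iff_not_imp_right.2 (h.four ht ht' hb)⟩

theorem fuse {x c g : G} (hx : x ∈ (P : Subgroup G)) (hx' : x ∉ Zp P) (hc : c ∈ Zp P)
    (e : g * x * g⁻¹ = c) : ∃ y ∈ (P : Subgroup G), y ∉ Zp P ∧
      ∃ k ∈ normalizer (Ap P y : Set G), k * c * k⁻¹ = y := by
  obtain ⟨k, e1, h1⟩ := Cfg.exists_cj_le hc e
  have c1 := card_mul_relIndex' (inf_le_left : Ap P x ≤ P)
  have c2 := card_mul_relIndex' (Zp_le_Ap hx)
  rw [h.relIndex_Ap hx hx'] at c1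
  rw [h.relIndex_Zp hx hx'] at c2
  obtain ⟨y, hy, hy'⟩ : ∃ y ∈ cj k (Ap P x), y ∉ Zp P := by
    by_contra! h2
    have := card_le_of_le (show _ ≤ _ from h2)
    rw [card_cj] at this
    have := Nat.card_pos (α := Zp P)
    omega
  have h2 : cj k (Ap P x) = Ap P y := by
    have c3 := card_mul_relIndex' (inf_le_left : Ap P y ≤ P)
    rw [h.relIndex_Ap (h1 hy) hy'] at c3
    refine eq_of_le_of_card_le (fun a ha => mem_Ap.2 ⟨h1 ha, ?_⟩) 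
      (by rw [card_cj]; exact Nat.le_of_mul_le_mul_right (c3.trans c1.symm).le two_pos)
    have := h.comm_Ap hx hx' _ (mem_cj.1 ha) _ (mem_cj.1 hy)
    calc a * y = k * (k⁻¹ * a * k * (k⁻¹ * y * k)) * k⁻¹ := by group
      _ = y * a := by rw [this]; group
  obtain ⟨n, hn, e2⟩ := (((IsSylowIn.of_sylow P (h.le_normalizer_Ap hx)).cj k)).exists_cj_eq
    (T' := P) (by
      rw [cj_normalizer, h2]; exact IsSylowIn.of_sylow P (h.le_normalizer_Ap (h1 hy)))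
  rw [cj_normalizer, h2] at hn
  rw [← cj_mul, ← mem_normalizer_iff_cj] at e2
  have h3 : n * c * n⁻¹ ∈ Ap P y := conj_mem_of_mem_normalizer hn (Zp_le_Ap (h1 hy) hc)
  have h4 : n * c * n⁻¹ ∉ Zp P := fun h4 => hx' (by
    have := conj_mem_Zp (inv_mem e2) h4
    rw [← e1] at this
    convert this using 1; group)
  exact ⟨_, h3.1, h4, n, h.Ap_eq (h1 hy) hy' h3 h4 ▸ hn, rfl⟩

theorem exists_act : ∃ t k, Act P z t k := by
  obtain ⟨g, hg, hne⟩ := h.ni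
  obtain ⟨y, hy, hy', k, hk, e⟩ := h.fuse (g := g⁻¹) hg (fun e => hne (h.eq_of_conj e)) h.mem
    (by group)
  exact ⟨y, k, hy, hy', hk, e⟩

theorem mem_C0_iff {c : G} : c ∈ C0 P ↔
    c ∈ Zp P ∧ ∀ g, g * c * g⁻¹ ∈ (P : Subgroup G) → g * c * g⁻¹ ∈ Zp P := by
  rw [mem_C0]
  refine and_congr_right fun hc => ⟨fun h1 g hg => ?_, fun h1 y hy _ k hk =>
    h1 k (conj_mem_of_mem_normalizer hk (Zp_le_Ap hy hc)).1⟩
  by_contra h2
  obtain ⟨y, hy, hy', k, hk, e⟩ := h.fuse (g := g⁻¹) hg h2 hc (by group)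
  exact hy' (e ▸ h1 y hy hy' k hk)

theorem sc_C0 : IsStronglyClosed (C0 P) P := by
  refine ⟨inf_le_left.trans inf_le_left, fun x hx g hg => ?_⟩
  rw [h.mem_C0_iff] at hx ⊢
  refine ⟨hx.2 g hg, fun k => ?_⟩
  rw [show k * (g * x * g⁻¹) * k⁻¹ = (k * g) * x * (k * g)⁻¹ by group]
  exact hx.2 _

theorem fixZ {t k c : G} (ht : t ∈ (P : Subgroup G)) (ht' : t ∉ Zp P)
    (hk : k ∈ normalizer (Ap P t : Set G)) (e : k * z * k⁻¹ = z) (hc : c ∈ Zp P) :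
    k * c * k⁻¹ ∈ Zp P := by
  let Y : Subgroup G :=
    { carrier := {y | y ∈ normalizer (Ap P t : Set G) ∧ y * z * y⁻¹ = z ∧
        ∀ a ∈ Ap P t, y * a * y⁻¹ = a ∨ y * a * y⁻¹ = z * a}
      one_mem' := ⟨one_mem _, by simp, fun a _ => Or.inl (by simp)⟩
      mul_mem' := fun {x y} hx hy => ⟨mul_mem hx.1 hy.1, by
        rw [mul_inv_rev, ← mul_assoc, mul_assoc x, mul_assoc x, hy.2.1, hx.2.1], fun a ha => by
        rw [show x * y * a * (x * y)⁻¹ = x * (y * a * y⁻¹) * x⁻¹ by group]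
        rcases hy.2.2 a ha with e1 | e1 <;> rw [e1]
        · exact hx.2.2 a ha
        · rw [← conj_mul, hx.2.1]
          rcases hx.2.2 a ha with e2 | e2 <;> rw [e2]
          · exact Or.inr rfl
          · exact Or.inl (by rw [← mul_assoc, h.sq, one_mul])⟩
      inv_mem' := fun {x} hx => by
        have e0 : x⁻¹ * z * x⁻¹⁻¹ = z := by nth_rewrite 1 [← hx.2.1]; group
        refine ⟨inv_mem hx.1, e0, fun a ha => ?_⟩
        rcases hx.2.2 a ha with e1 | e1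
        · exact Or.inl (by nth_rewrite 1 [← e1]; group)
        · right
          calc x⁻¹ * a * x⁻¹⁻¹ = x⁻¹ * z * x⁻¹⁻¹ * (x⁻¹ * (z * a) * x⁻¹⁻¹) := by
                rw [conj_mul, ← mul_assoc z, h.sq, one_mul]
            _ = z * (x⁻¹ * (x * a * x⁻¹) * x⁻¹⁻¹) := by rw [e0, e1]
            _ = z * a := by group }
  have hzA : z ∈ Ap P t := Zp_le_Ap ht h.mem
  have hPY : (P : Subgroup G) ≤ Y := fun s hs => ⟨h.le_normalizer_Ap ht hs,
    h.norm_fix (le_normalizer hs), fun a ha => (h.comm s hs a ha.1).imp_left fun e1 => by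
      rw [e1]; group⟩
  have hn : ((centralizer (Ap P t : Set G)).subgroupOf Y).Normal :=
    normal_subgroupOf_of_le_normalizer fun y hy => normalizer_le_normalizer_centralizer _ hy.1
  have h2 : IsPGroup 2 (Y ⧸ (centralizer (Ap P t : Set G)).subgroupOf Y) := by
    intro y
    obtain ⟨y, rfl⟩ := QuotientGroup.mk_surjective y
    refine ⟨1, ?_⟩
    rw [← QuotientGroup.mk_pow, QuotientGroup.eq_one_iff, mem_subgroupOf]
    intro a ha
    rw [pow_one, _root_.sq, eq_comm, ← mul_inv_eq_iff_eq_mul]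
    change (y : G) * y * a * ((y : G) * y)⁻¹ = a
    rw [show (y : G) * y * a * ((y : G) * y)⁻¹ = y * (y * a * (y : G)⁻¹) * (y : G)⁻¹ by group]
    rcases y.2.2.2 a ha with e1 | e1
    · rw [e1, e1]
    · rw [e1, ← conj_mul, y.2.2.1, e1, ← mul_assoc, h.sq, one_mul]
  have h3 := Transfer.sup_eq_top_of_isPGroup_quotient h2 (H := (P : Subgroup G).subgroupOf Y)
    (IsSylowIn.of_sylow P hPY).not_dvd
  obtain ⟨s, hs, e1⟩ := not_forall₂.1 fun e => ht' ⟨ht, e⟩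
  have hs' : k * s * k⁻¹ ∈ Y := by
    refine ⟨mul_mem (mul_mem hk (hPY hs).1) (inv_mem hk), ?_, fun a ha => ?_⟩
    · calc k * s * k⁻¹ * z * (k * s * k⁻¹)⁻¹
          = k * (s * (k⁻¹ * (k * z * k⁻¹) * k) * s⁻¹) * k⁻¹ := by rw [e]; group
        _ = k * (s * z * s⁻¹) * k⁻¹ := by group
        _ = z := by rw [(hPY hs).2.1, e]
    · rw [show k * s * k⁻¹ * a * (k * s * k⁻¹)⁻¹ = k * (s * (k⁻¹ * a * k) * s⁻¹) * k⁻¹ by group]
      rcases (hPY hs).2.2 _ (conj_mem_of_mem_normalizer' hk ha) with e2 | e2 <;> rw [e2]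
      · exact Or.inl (by group)
      · exact Or.inr (by rw [← conj_mul, e]; group)
  obtain ⟨d, hd, p, hp, e2⟩ := (mem_sup_of_le_normalizer_left le_normalizer_of_normal).1
    (h3 ▸ mem_top (⟨_, hs'⟩ : Y) : _ ∈ _ ⊔ _)
  replace e2 : (d : G) * p = k * s * k⁻¹ := congrArg Subtype.val e2
  rw [mem_subgroupOf] at hd hp
  have hc' : k * c * k⁻¹ ∈ Ap P t := conj_mem_of_mem_normalizer hk (Zp_le_Ap ht hc)
  refine h.mem_Zp_of_comm ht (h.comm_Ap ht ht') hc' hp (fun e3 => e1 ?_) ?_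
  · have a1 := conj_mem_of_mem_normalizer hk (self_mem_Ap ht)
    have a2 := h.comm_Ap ht ht' _ a1 _ (mem_Ap.2 ⟨hp, e3⟩)
    calc s * t = k⁻¹ * (k * s * k⁻¹ * (k * t * k⁻¹)) * k := by group
      _ = k⁻¹ * ((k * t * k⁻¹) * d * p) * k := by rw [← e2, mul_assoc (d : G), ← a2, hd _ a1]; group
      _ = t * s := by rw [mul_assoc _ (d : G), e2]; group
  · calc p * (k * c * k⁻¹) = (d : G)⁻¹ * (k * (s * c) * k⁻¹) := by
          rw [← conj_mul, ← e2]; group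
      _ = (d : G)⁻¹ * (k * c * k⁻¹ * d) * p := by
          rw [hc.2 s hs, ← conj_mul, ← e2]; group
      _ = _ := by rw [hd _ hc']; group

section Act

variable {t k : G} (ha : Act P z t k)
include ha

theorem act_sq : t * t = 1 := by rw [← ha.eq, conj_mul, h.sq]; group

theorem act_inv_nmem : k⁻¹ * z * k ∉ Zp P := fun e => ha.nmem (by
  have e1 := h.eq_of_conj (g := k⁻¹) (by rwa [inv_inv])
  rw [← ha.eq, ← e1]
  convert h.mem using 1
  rw [e1]; nth_rewrite 1 [← e1]; group)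

theorem omega {n : G} (hn : n ∈ normalizer (Ap P t : Set G)) :
    n * z * n⁻¹ = z ∨ n * z * n⁻¹ = t ∨ n * z * n⁻¹ = z * t := by
  have hz := Zp_le_Ap ha.mem h.mem
  refine or_iff_not_imp_left.2 fun h1 => or_iff_not_imp_left.2 fun h2 => ?_
  have h3 := h.four ha.mem ha.nmem (conj_mem_of_mem_normalizer hn hz) fun e => h1 (h.eq_of_conj e)
  have h4 : k⁻¹ * n * z * (k⁻¹ * n)⁻¹ ∉ Zp P := fun e => h2 (by
    rw [← ha.eq]; nth_rewrite 2 [← h.eq_of_conj e]; group)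
  have h5 := conj_mem_of_mem_normalizer (mul_mem (inv_mem ha.norm) hn) hz
  obtain ⟨s, hs, e1⟩ := not_forall₂.1 fun e => h4 ⟨h5.1, e⟩
  have e2 : n * z * n⁻¹ * t = k * s * (k⁻¹ * n) * z * (k * s * (k⁻¹ * n))⁻¹ := by
    calc n * z * n⁻¹ * t = k * (k⁻¹ * n * z * (k⁻¹ * n)⁻¹ * z) * k⁻¹ := by rw [← ha.eq]; group
      _ = k * (s * (k⁻¹ * n * z * (k⁻¹ * n)⁻¹) * s⁻¹) * k⁻¹ := by
          rw [h.mem.2 _ h5.1, h.conj_eq hs h5.1 e1]
      _ = _ := by group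
  rw [e2] at h3
  rw [h.eq_of_conj h3] at e2
  rw [eq_mul_inv_of_mul_eq e2, inv_eq_of_mul_eq_one_right (h.act_sq ha)]

theorem core {c n : G} (hc : c ∈ Zp P) (hc' : k⁻¹ * c * k ∈ Zp P)
    (hn : n ∈ normalizer (Ap P t : Set G)) : n * c * n⁻¹ ∈ Zp P := by
  rcases h.omega ha (inv_mem hn) with e | e | e
  · exact h.fixZ ha.mem ha.nmem hn (by nth_rewrite 1 [← e]; group) hc
  · have := h.fixZ ha.mem ha.nmem (mul_mem hn ha.norm) (by
      rw [show n * k * z * (n * k)⁻¹ = n * (k * z * k⁻¹) * n⁻¹ by group, ha.eq, ← e]; group) hc'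
    convert this using 1; group
  · obtain ⟨s, hs, e1⟩ := not_forall₂.1 fun e => ha.nmem ⟨ha.mem, e⟩
    have := h.fixZ ha.mem ha.nmem (mul_mem (mul_mem hn (h.le_normalizer_Ap ha.mem hs)) ha.norm) (by
      rw [show n * s * k * z * (n * s * k)⁻¹ = n * (s * (k * z * k⁻¹) * s⁻¹) * n⁻¹ by group, ha.eq,
        h.conj_eq hs ha.mem e1, ← e]; group) hc'
    convert this using 1
    calc n * c * n⁻¹ = n * (s * c * s⁻¹) * n⁻¹ := by rw [hc.2 s hs]; group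
      _ = _ := by group

theorem split {c : G} (hc : c ∈ Zp P) : k⁻¹ * c * k ∈ Zp P ∨ k⁻¹ * (z * c) * k ∈ Zp P := by
  refine or_iff_not_imp_left.2 fun h1 => ?_
  have := h.mul_mem_Zp ha.mem ha.nmem
    (conj_mem_of_mem_normalizer' ha.norm (Zp_le_Ap ha.mem h.mem)) (h.act_inv_nmem ha)
    (conj_mem_of_mem_normalizer' ha.norm (Zp_le_Ap ha.mem hc)) h1
  convert this using 1; group

theorem sq_core {c : G} (hc : c ∈ Zp P) : k⁻¹ * (c * c) * k ∈ Zp P := by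
  have := h.sq_mem (conj_mem_of_mem_normalizer' ha.norm (Zp_le_Ap ha.mem hc)).1
  convert this using 1; group

theorem isConj_zt {c : G} (hc : c ∈ Zp P) : IsConj (t * c) (z * t * c) := by
  obtain ⟨s, hs, e1⟩ := not_forall₂.1 fun e => ha.nmem ⟨ha.mem, e⟩
  refine isConj_iff.2 ⟨s, ?_⟩
  rw [← conj_mul, h.conj_eq hs ha.mem e1, hc.2 s hs]; group

theorem isConj_core {c : G} (hc : c ∈ Zp P) (hc' : k⁻¹ * c * k ∈ Zp P) :
    IsConj (z * c) (t * c) := by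
  have h1 := (conj_mem_of_mem_normalizer' ha.norm (Zp_le_Ap ha.mem h.mem)).1
  obtain ⟨s, hs, e1⟩ := not_forall₂.1 fun e => h.act_inv_nmem ha ⟨h1, e⟩
  refine IsConj.trans (isConj_iff.2 ⟨k * s * k⁻¹, ?_⟩) (h.isConj_zt ha hc).symm
  calc _ = k * (s * (k⁻¹ * z * k) * s⁻¹ * (s * (k⁻¹ * c * k) * s⁻¹)) * k⁻¹ := by group
    _ = k * z * k⁻¹ * z * c := by rw [h.conj_eq hs h1 e1, hc'.2 s hs]; group
    _ = _ := by rw [ha.eq, h.mem.2 t ha.mem]

theorem isDih_of_center (hZ : ∀ c ∈ Zp P, c = 1 ∨ c = z) :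
    ∃ r, DihSyl.IsDih (P : Subgroup G) 4 r t := by
  obtain ⟨r, hr, e1, e2⟩ : ∃ r ∈ (P : Subgroup G), r * t ≠ t * r ∧ r * r = z := by
    obtain ⟨s, hs, e1⟩ := not_forall₂.1 fun e => ha.nmem ⟨ha.mem, e⟩
    rcases hZ _ (h.sq_mem hs) with e | e
    · refine ⟨s * t, mul_mem hs ha.mem, fun e2 => e1 ?_, ?_⟩
      · rw [← mul_assoc] at e2
        exact mul_right_cancel e2
      · calc s * t * (s * t) = s * t * s⁻¹ * (s * s) * t := by group
          _ = z := by rw [h.conj_eq hs ha.mem e1, e, mul_one, mul_assoc, h.act_sq ha, mul_one]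
    · exact ⟨s, hs, e1, e⟩
  have hr' : r ∉ Zp P := fun e => e1 (e.2 t ha.mem).symm
  have e3 : z * r = r⁻¹ := by
    rw [eq_inv_iff_mul_eq_one, mul_assoc, e2, h.sq]
  have h1 : ∀ g ∈ Ap P r, ∃ i : ℤ, g = r ^ i := fun g hg => by
    by_cases e : g ∈ Zp P
    · rcases hZ g e with rfl | rfl
      · exact ⟨0, by simp⟩
      · exact ⟨2, by rw [← e2, zpow_two]⟩
    · rcases hZ _ (h.four hr hr' hg e) with e | e
      · exact ⟨-1, by rw [eq_inv_of_mul_eq_one_left e]; simp⟩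
      · exact ⟨1, by rw [← e2] at e; rw [mul_right_cancel e]; simp⟩
  refine ⟨r, ?_, h.act_sq ha, (h.conj_eq ha.mem hr (Ne.symm e1)).trans e3, ?_, fun g => ⟨fun hg => ?_, ?_⟩⟩
  · have : Fact (Nat.Prime 2) := ⟨Nat.prime_two⟩
    refine orderOf_eq_prime_pow (p := 2) (n := 1) ?_ ?_
    · rw [pow_one, _root_.sq, e2]; exact h.ne
    · rw [show r ^ 2 ^ (1 + 1) = r * r * (r * r) by norm_num [pow_succ, mul_assoc], e2, h.sq]
  · rintro ⟨i, rfl⟩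
    exact e1 (by group)
  · by_cases e : g * r = r * g
    · exact (h1 g (mem_Ap.2 ⟨hg, e⟩)).imp fun i hi => Or.inl hi
    · refine (h1 _ (mem_Ap.2 ⟨mul_mem hg ha.mem,
        h.mul_comm_of_ne hg ha.mem hr e (Ne.symm e1)⟩)).imp fun i hi => Or.inr ?_
      rw [← hi, mul_assoc, h.act_sq ha, mul_one]
  · rintro ⟨i, rfl | rfl⟩
    · exact zpow_mem hr i
    · exact mul_mem (zpow_mem hr i) ha.mem

end Act

theorem act_of_ne {y n : G} (hy : y ∈ (P : Subgroup G)) (hy' : y ∉ Zp P)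
    (hn : n ∈ normalizer (Ap P y : Set G)) (e : n * z * n⁻¹ ≠ z) :
    Act P z (n * z * n⁻¹) n ∧ Ap P (n * z * n⁻¹) = Ap P y := by
  have h1 := conj_mem_of_mem_normalizer hn (Zp_le_Ap hy h.mem)
  have h2 : n * z * n⁻¹ ∉ Zp P := fun e' => e (h.eq_of_conj e')
  have h3 := h.Ap_eq hy hy' h1 h2
  exact ⟨⟨h1.1, h2, h3 ▸ hn, rfl⟩, h3⟩

theorem mem_C0_of_two {t₁ k₁ t₂ k₂ c : G} (h₁ : Act P z t₁ k₁) (h₂ : Act P z t₂ k₂)
    (hne : t₁ * t₂ ≠ t₂ * t₁) (hc : c ∈ Zp P) (hc₁ : k₁⁻¹ * c * k₁ ∈ Zp P)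
    (hc₂ : k₂⁻¹ * c * k₂ ∈ Zp P) : c ∈ C0 P := by
  refine mem_C0.2 ⟨hc, fun y hy hy' n hn => ?_⟩
  by_cases e : n * z * n⁻¹ = z
  · exact h.fixZ hy hy' hn e hc
  obtain ⟨h₃, e3⟩ := h.act_of_ne hy hy' hn e
  generalize n * z * n⁻¹ = t₃ at *
  by_cases e1 : t₃ * t₁ = t₁ * t₃
  · exact h.core h₁ hc hc₁ (h.Ap_eq h₁.mem h₁.nmem (mem_Ap.2 ⟨h₃.mem, e1⟩) h₃.nmem ▸ h₃.norm)
  by_cases e2 : t₃ * t₂ = t₂ * t₃
  · exact h.core h₂ hc hc₂ (h.Ap_eq h₂.mem h₂.nmem (mem_Ap.2 ⟨h₃.mem, e2⟩) h₃.nmem ▸ h₃.norm)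
  have h4 := h.four h₃.mem h₃.nmem (mem_Ap.2 ⟨mul_mem h₁.mem h₂.mem, h.mul_comm_of_ne h₁.mem h₂.mem
    h₃.mem (Ne.symm e1) (Ne.symm e2)⟩) fun e4 => hne (by
      have := e4.2 t₁ h₁.mem
      rw [mul_assoc] at this
      exact mul_left_cancel this)
  refine absurd ?_ (h.act_inv_nmem h₁)
  convert h.sq_core h₁ h4 using 3
  calc z = t₁ * t₂ * t₁⁻¹ * (t₁ * t₁) * t₂ * (t₃ * t₃) := by
        rw [h.conj_eq h₁.mem h₂.mem hne, h.act_sq h₁, h.act_sq h₃, mul_one, mul_one, mul_assoc,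
          h.act_sq h₂, mul_one]
    _ = t₁ * t₂ * (t₁ * t₂ * t₃ * t₃) := by group
    _ = _ := by rw [← h4.2 t₃ h₃.mem]; group

theorem center_eq (hG : ∀ M : Subgroup G, M.index ≠ 2) (h0 : C0 P = ⊥) :
    ∀ c ∈ Zp P, c = 1 ∨ c = z := by
  obtain ⟨t₁, k₁, h₁⟩ := h.exists_act
  by_cases hC : ∀ c ∈ Zp P, k₁⁻¹ * c * k₁ ∈ Zp P → c = 1
  · intro c hc
    refine (h.split h₁ hc).imp (hC c hc) fun e => ?_
    rw [← h.inv, eq_inv_iff_mul_eq_one, h.mem.2 c hc.1, hC _ (mul_mem h.mem hc) e]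
  exfalso
  push Not at hC
  obtain ⟨c₁, hc₁, hc₁', hne⟩ := hC
  obtain ⟨y, hy, hy', n, hn, e⟩ : ∃ y ∈ (P : Subgroup G), y ∉ Zp P ∧
      ∃ n ∈ normalizer (Ap P y : Set G), n * c₁ * n⁻¹ ∉ Zp P := by
    by_contra! h1
    exact hne (mem_bot.1 (h0 ▸ mem_C0.2 ⟨hc₁, h1⟩))
  obtain ⟨h₂, -⟩ := h.act_of_ne hy hy' (inv_mem hn) fun e1 =>
    e (h.fixZ hy hy' hn (by nth_rewrite 1 [← e1]; group) hc₁)
  generalize n⁻¹ * z * n⁻¹⁻¹ = t₂ at h₂
  have hn12 : t₁ * t₂ ≠ t₂ * t₁ := fun e1 => e (h.core h₁ hc₁ hc₁' (by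
    rw [← inv_mem_iff]
    exact h.Ap_eq h₁.mem h₁.nmem (mem_Ap.2 ⟨h₂.mem, e1.symm⟩) h₂.nmem ▸ h₂.norm))
  have key : ∀ c ∈ Zp P, k₁⁻¹ * c * k₁ ∈ Zp P → n⁻¹⁻¹ * c * n⁻¹ ∈ Zp P → c = 1 :=
    fun c a1 a2 a3 => mem_bot.1 (h0 ▸ h.mem_C0_of_two h₁ h₂ hn12 a1 a2 a3)
  have hsq : c₁ * c₁ = 1 := key _ (mul_mem hc₁ hc₁) (h.sq_core h₁ hc₁) (h.sq_core h₂ hc₁)
  have zp : ∀ {w x : G}, w * w = 1 → x ∈ zpowers w → x = 1 ∨ x = w := fun {w x} hw hx => by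
    obtain ⟨i, rfl⟩ := hx
    obtain ⟨j, rfl | rfl⟩ := Int.even_or_odd' i
    · exact Or.inl (by change w ^ (2 * j) = 1; rw [zpow_mul, zpow_two, hw, one_zpow])
    · exact Or.inr (by
        change w ^ (2 * j + 1) = w; rw [zpow_add_one, zpow_mul, zpow_two, hw, one_zpow, one_mul])
  let D := zpowers z ⊔ zpowers t₁ ⊔ zpowers t₂
  have hz : z ∈ D := mem_sup_left (mem_sup_left (mem_zpowers _))
  have ht₁ : t₁ ∈ D := mem_sup_left (mem_sup_right (mem_zpowers _))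
  have ht₂ : t₂ ∈ D := mem_sup_right (mem_zpowers _)
  have hD : ∀ g, g * c₁ * g⁻¹ ∉ D := fun g hg => by
    have n1 : ∀ s ∈ (P : Subgroup G), s ∈ normalizer (zpowers z : Set G) := fun s hs =>
      mem_normalizer_of_cj_le (by rw [cj_zpowers, h.norm_fix (le_normalizer hs)])
    obtain ⟨_, hw, b, hb, e2⟩ := (mem_sup_of_le_normalizer_left (zpowers_le.2
      (mem_normalizer_of_cj_le (by
        rw [cj_sup, cj_zpowers, cj_zpowers, h.norm_fix (le_normalizer h₂.mem),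
          h.conj_eq h₂.mem h₁.mem hn12.symm]
        exact sup_le le_sup_left (zpowers_le.2
          (mul_mem_sup (mem_zpowers _) (mem_zpowers _))))))).1 hg
    obtain ⟨d, hd, a, ha, rfl⟩ :=
      (mem_sup_of_le_normalizer_left (zpowers_le.2 (n1 _ h₁.mem))).1 hw
    have a1 : ¬ IsConj z (d * a * b) := fun a1 => by
      obtain ⟨u, hu⟩ := isConj_iff.1 (a1.trans (isConj_iff.2 ⟨g⁻¹, by rw [e2]; group⟩ :
        IsConj _ c₁))
      exact h.act_inv_nmem h₁ (h.eq_of_conj (hu ▸ hc₁) ▸ hu ▸ hc₁')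
    have a2 : d * a * b * (d * a * b) = 1 := by rw [e2, conj_mul, hsq]; group
    have a3 : d * a * b ≠ 1 := fun a3 => hne (by simpa [a3] using e2.symm)
    have b1 : ∀ {t k}, Act P z t k → IsConj z t ∧ IsConj z (z * t) := fun ht =>
      ⟨isConj_iff.2 ⟨_, ht.eq⟩, (isConj_iff.2 ⟨_, ht.eq⟩).trans
        (by simpa using h.isConj_zt ht (one_mem _))⟩
    have b2 : t₁ * t₂ * (t₁ * t₂) = z := by
      calc _ = t₁ * t₂ * t₁⁻¹ * (t₁ * t₁) * t₂ := by group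
        _ = z := by rw [h.conj_eq h₁.mem h₂.mem hn12, h.act_sq h₁, mul_one, mul_assoc,
          h.act_sq h₂, mul_one]
    rcases zp h.sq hd with e3 | e3 <;> rcases zp (h.act_sq h₁) ha with e4 | e4 <;>
      rcases zp (h.act_sq h₂) hb with e5 | e5 <;>
      simp only [e3, e4, e5, mul_one, one_mul] at a1 a2 a3
    · exact a3 rfl
    · exact a1 (b1 h₂).1
    · exact a1 (b1 h₁).1
    · exact h.ne (b2.symm.trans a2)
    · exact a1 (IsConj.refl _)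
    · exact a1 (b1 h₂).2
    · exact a1 (b1 h₁).2
    · refine h.ne ?_
      rw [mul_assoc z, ← h.mem.2 _ (mul_mem h₁.mem h₂.mem), mul_assoc, ← mul_assoc z,
        ← h.mem.2 _ (mul_mem h₁.mem h₂.mem), mul_assoc _ z z, h.sq, mul_one] at a2
      exact b2.symm.trans a2
  have hZD : ∀ c ∈ Zp P, k₁⁻¹ * c * k₁ ∈ Zp P → c * c₁ ∈ D ∨ c ∈ D := fun c hc hc' => by
    rcases h.split h₂ hc with e1 | e1
    · exact Or.inr (key c hc hc' e1 ▸ one_mem _)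
    · left
      rw [key (c * c₁) (mul_mem hc hc₁) (by convert mul_mem hc' hc₁' using 1; group) (by
        convert mul_mem e1 ((h.split h₂ hc₁).resolve_left (by rwa [inv_inv])) using 1
        calc _ = n * (z * z * c * c₁) * n⁻¹ := by rw [h.sq]; group
          _ = n * (z * (c * z) * c₁) * n⁻¹ := by rw [h.mem.2 c hc.1]; group
          _ = _ := by group)]
      exact one_mem _
  have hZD' : ∀ c ∈ Zp P, c * c₁ ∈ D ∨ c ∈ D := fun c hc => by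
    rcases h.split h₁ hc with e1 | e1
    · exact hZD c hc e1
    · simpa only [mul_assoc, D.mul_mem_cancel_left hz] using hZD _ (mul_mem h.mem hc) e1
  have hPD : ∀ b ∈ (P : Subgroup G), ∃ w ∈ D, w * b ∈ Zp P := fun b hb => by
    by_cases e0 : b ∈ Zp P
    · exact ⟨1, one_mem _, by rwa [one_mul]⟩
    by_cases e1 : t₁ * b = b * t₁
    · exact ⟨t₁, ht₁, h.four hb e0 (mem_Ap.2 ⟨h₁.mem, e1⟩) h₁.nmem⟩
    by_cases e2 : t₂ * b = b * t₂
    · exact ⟨t₂, ht₂, h.four hb e0 (mem_Ap.2 ⟨h₂.mem, e2⟩) h₂.nmem⟩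
    refine ⟨_, mul_mem ht₁ ht₂, h.four hb e0 (mem_Ap.2 ⟨mul_mem h₁.mem h₂.mem,
      h.mul_comm_of_ne h₁.mem h₂.mem hb e1 e2⟩) fun e4 => hn12 ?_⟩
    have := e4.2 t₁ h₁.mem
    rw [mul_assoc] at this
    exact mul_left_cancel this
  obtain ⟨g, hg⟩ := Transfer.exists_conj_mem_of_no_index_two hG P.not_dvd_index (Q := D)
    (relIndex_eq_two_iff_exists_notMem_and.2 ⟨c₁, hc₁.1, by simpa using hD 1, fun b hb => by
      obtain ⟨w, hw, e1⟩ := hPD b hb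
      simpa only [mul_assoc, D.mul_mem_cancel_left hw] using hZD' _ e1⟩)
    (orderOf_eq_prime (by rw [_root_.sq, hsq]) hne)
  exact hD g hg

end NI

end CfsgLib.Cl2
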