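import Mathlib
import Cfsg.Agent.Lib.Cl2.Fus
import Cfsg.Agent.Lib.Gold.All
import Cfsg.Agent.Lib.ZStarApp.Basic
import Cfsg.Agent.Lib.Schur.Hopf
import Cfsg.Agent.S2116

/-!
# Quasisimple groups whose Sylow 2-subgroups have centre of index 4
-/

set_option autoImplicit false

namespace CfsgLib.Cl2

open Subgroup Cfsg CfsgLib.Tech CfsgLib.Core CfsgLib.Abel2 CfsgLib.Comp

universe u

section General

variable {G : Type*} [Group G] {P : Sylow 2 G} {z : G}

theorem mul_mem_of_two {A B : Subgroup G} (h : A.relIndex B = 2) {x y : G} (hx : x ∈ B)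
    (hy : y ∈ B) (hx' : x ∉ A) (hy' : y ∉ A) : x * y ∈ A :=
  (mul_mem_iff_of_index_two (H := A.subgroupOf B) h (a := ⟨x, hx⟩) (b := ⟨y, hy⟩)).2
    (iff_of_false hx' hy')

theorem index_center_eq (P : Sylow 2 G) :
    (center (P : Subgroup G)).index = (Zp P).relIndex P := by
  rw [relIndex, inf_subgroupOf_left]
  congr 1
  ext x
  rw [mem_center_iff, mem_subgroupOf]
  exact ⟨fun h y hy => congrArg Subtype.val (h ⟨y, hy⟩), fun h y => Subtype.ext (h y y.2)⟩

theorem exists_cfg (hna : ¬ IsMulCommutative (P : Subgroup G)) (h4 : (Zp P).relIndex P = 4) :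
    ∃ z, Cfg P z := by
  have h1 : ∀ y ∈ (P : Subgroup G), y ∉ Zp P →
      (Zp P).relIndex (Ap P y) = 2 ∧ (Ap P y).relIndex P = 2 := fun y hy hy' => by
    have e := (relIndex_mul_relIndex _ _ _ (Zp_le_Ap hy) inf_le_left).trans h4
    have e1 : (Zp P).relIndex (Ap P y) ≠ 1 := fun e1 =>
      hy' (relIndex_eq_one.1 e1 (self_mem_Ap hy))
    have e2 : (Ap P y).relIndex P ≠ 1 := fun e2 =>
      hy' ⟨hy, fun a ha => (mem_Ap.1 (relIndex_eq_one.1 e2 ha)).2⟩
    have e3 := Nat.le_of_dvd (by norm_num) (Dvd.intro _ e)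
    generalize (Zp P).relIndex (Ap P y) = m at *
    interval_cases m <;> omega
  have h2 : ∀ y ∈ (P : Subgroup G), ∀ x ∈ (P : Subgroup G), ∀ x' ∈ (P : Subgroup G),
      x * y ≠ y * x → x' * y ≠ y * x' → x * y * x⁻¹ * y⁻¹ = x' * y * x'⁻¹ * y⁻¹ := by
    intro y hy x hx x' hx' e e'
    have := (mem_Ap.1 (mul_mem_of_two (h1 y hy fun h => e (h.2 x hx)).2 (inv_mem hx') hx
      (fun h => e' (mem_Ap.1 (inv_mem_iff.1 h)).2) (fun h => e (mem_Ap.1 h).2))).2
    calc x * y * x⁻¹ * y⁻¹ = x' * (x'⁻¹ * x * y) * x⁻¹ * y⁻¹ := by group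
      _ = _ := by rw [this]; group
  obtain ⟨a, ha, b, hb, e⟩ : ∃ a ∈ (P : Subgroup G), ∃ b ∈ (P : Subgroup G), a * b ≠ b * a := by
    by_contra! h
    exact hna (isMulCommutative_iff_forall.2 h)
  have h3 : ∀ y ∈ (P : Subgroup G), y * a ≠ a * y → ∀ x ∈ (P : Subgroup G), x * y ≠ y * x →
      x * y * x⁻¹ * y⁻¹ = a * b * a⁻¹ * b⁻¹ := fun y hy e1 x hx e2 => by
    rw [h2 y hy x hx a ha e2 e1.symm, ← inv_inj]
    simpa [mul_assoc] using h2 a ha y hy b hb e1 e.symm
  have h4 : ∀ y ∈ (P : Subgroup G), y * b ≠ b * y → ∀ x ∈ (P : Subgroup G), x * y ≠ y * x →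
      x * y * x⁻¹ * y⁻¹ = (a * b * a⁻¹ * b⁻¹)⁻¹ := fun y hy e1 x hx e2 => by
    rw [h2 y hy x hx b hb e2 e1.symm, ← h2 b hb y hy a ha e1 e]
    group
  have e1 : a * b * a ≠ a * (a * b) := fun h => e (by
    rw [mul_assoc] at h; exact (mul_left_cancel h).symm)
  have e2 : a * b * b ≠ b * (a * b) := fun h => e (by
    rw [← mul_assoc] at h; exact mul_right_cancel h)
  have h5 := (h4 _ (mul_mem ha hb) e2 a ha e1.symm).symm.trans
    (h3 _ (mul_mem ha hb) e1 a ha e1.symm)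
  refine ⟨a * b * a⁻¹ * b⁻¹, fun h => e (by rwa [mul_inv_eq_one, mul_inv_eq_iff_eq_mul] at h),
    fun x hx y hy => or_iff_not_imp_left.2 fun e3 => ?_, a, ha, b, hb, by group⟩
  rw [← mul_inv_eq_iff_eq_mul]
  by_cases e4 : y * a = a * y
  · rw [h4 y hy (fun e5 => ?_) x hx e3, h5]
    have hy' : y ∉ Zp P := fun h => e3 (h.2 x hx)
    have := (mul_mem_of_two (h1 y hy hy').1 (mem_Ap.2 ⟨ha, e4.symm⟩) (mem_Ap.2 ⟨hb, e5.symm⟩)
      (fun h => e (h.2 b hb).symm) (fun h => e (h.2 a ha))).2 a ha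
    exact e1 this.symm
  · exact h3 y hy e4 x hx e3

theorem Cfg.commutator_le (h : Cfg P z) : ⁅(P : Subgroup G), (P : Subgroup G)⁆ ≤ zpowers z := by
  rw [Subgroup.commutator_le]
  intro a ha b hb
  rw [commutatorElement_def]
  rcases h.comm a ha b hb with e | e <;> rw [e]
  · simp
  · simp

theorem Cfg.eq_of_mem_zpowers (h : Cfg P z) {x : G} (hx : x ∈ zpowers z) : x = 1 ∨ x = z :=
  Gold.MainAux.mem_zpowers_invol h.sq hx

theorem Cfg.card_zpowers (h : Cfg P z) : Nat.card (zpowers z) = 2 := by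
  rw [Nat.card_zpowers, orderOf_eq_prime (by rw [_root_.sq, h.sq]) h.ne]

theorem Cfg.map [Finite G] (h : Cfg P z) {Q : Type*} [Group Q] {f : G →* Q}
    (hf : Function.Surjective f) (hz : f z ≠ 1) : Cfg (P.mapSurjective hf) (f z) where
  ne := hz
  comm := by
    rintro _ ⟨a, ha, rfl⟩ _ ⟨b, hb, rfl⟩
    refine (h.comm a ha b hb).imp (fun e => ?_) fun e => ?_
    · rw [← map_mul, e, map_mul]
    · rw [← map_inv, ← map_mul, ← map_mul, e, map_mul]
  ex := by
    obtain ⟨a, ha, b, hb, e⟩ := h.ex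
    exact ⟨_, ⟨a, ha, rfl⟩, _, ⟨b, hb, rfl⟩, by rw [← map_inv, ← map_mul, ← map_mul, e, map_mul]⟩

theorem Cfg.comm_map [Finite G] (h : Cfg P z) {Q : Type*} [Group Q] {f : G →* Q}
    (hf : Function.Surjective f) (hz : f z = 1) : IsMulCommutative (P.mapSurjective hf) := by
  refine isMulCommutative_iff_forall.2 ?_
  rintro _ ⟨a, ha, rfl⟩ _ ⟨b, hb, rfl⟩
  rcases h.comm a ha b hb with e | e
  · rw [← map_mul, e, map_mul]
  · rw [← mul_inv_eq_iff_eq_mul, ← map_inv, ← map_mul, ← map_mul, e, map_mul, hz, one_mul]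

theorem exists_lift_normalizer [Finite G] {p : ℕ} [Fact p.Prime] (P : Sylow p G) {Q : Type*}
    [Group Q] {f : G →* Q} (hf : Function.Surjective f) {y : Q}
    (hy : y ∈ normalizer (((P : Subgroup G).map f : Subgroup Q) : Set Q)) :
    ∃ n ∈ normalizer ((P : Subgroup G) : Set G), f n = y := by
  obtain ⟨g, rfl⟩ := hf y
  have h1 : g ∈ normalizer ((((P : Subgroup G).map f).comap f : Subgroup G) : Set G) :=
    le_normalizer_comap _ hy
  obtain ⟨n, hn, e⟩ := (IsSylowIn.of_sylow P (le_comap_map _ _)).frattini' h1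
  obtain ⟨x, hx, e1⟩ := hn
  exact ⟨g * n * x⁻¹, mul_mem e (inv_mem (le_normalizer hx)), by simp [e1]⟩

end General

variable {G : Type u} [Group G] [Finite G] {P : Sylow 2 G} {z : G}

theorem simple_case (hs : IsSimpleGroup G) (hn : ¬ IsMulCommutative G) (h : Cfg P z) :
    Nat.card (P : Subgroup G) = 8 ∧ GW.Known G := by
  have hni : NI P z := ⟨h, by
    by_contra! h1
    have := ZStarApp.mem_center_of_weaklyClosed (Gold.pPrimeCore_eq_bot_of_simple hs hn) P
      h.mem.1 h1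
    rcases (inferInstance : (center G).Normal).eq_bot_or_eq_top with e | e
    · exact h.ne (mem_bot.1 (e ▸ this))
    · exact hn (isMulCommutative_iff.2 fun a b => mem_center_iff.1 (e ▸ mem_top b : b ∈ center G) a)⟩
  obtain ⟨t, k, ht⟩ := hni.exists_act
  have h0 : C0 P = ⊥ := by
    by_contra h0
    rcases (Gold.all.inp G).gt hs hn (Gold.Cor.hasSC_of P h0 (isMulCommutative_iff_forall.2
      fun a ha b hb => hb.1.2 a ha.1.1) hni.sc_C0) with h1 | h1
    · exact ht.nmem ⟨ht.mem, fun a ha => (h1.central P t ht.mem (hni.act_sq ht) a ha).symm⟩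
    · exact ht.nmem ⟨ht.mem, fun a ha => h1.good.comm P ha ht.mem⟩
  obtain ⟨r, hr⟩ := hni.isDih_of_center ht (hni.center_eq
    (Transfer.index_ne_two_of_pResidual_eq_top (pResidual_eq_top_of_simple hn 2)) h0)
  exact ⟨hr.card, WCor.gws G hn ⟨P, 4, r, t, by norm_num, hr⟩⟩

theorem qs_main (hq : IsQuasisimple G) (P : Sylow 2 G)
    (hna : ¬ IsMulCommutative (P : Subgroup G)) (hZ : (center (P : Subgroup G)).index = 4) :
    Nat.card (P : Subgroup G) = 8 ∧
      (Nonempty (G ≃* alternatingGroup (Fin 7)) ∨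
       (Nat.card (center G) = 3 ∧ Nonempty (G ⧸ center G ≃* alternatingGroup (Fin 7))) ∨
       IsPSLOdd (G ⧸ center G)) := by
  rw [index_center_eq] at hZ
  obtain ⟨z, h⟩ := exists_cfg hna hZ
  have hc : _root_.commutator G = ⊤ := hq.1.commutator_eq_top
  have h1 : (P : Subgroup G) ⊓ center G ≤ zpowers z := by
    have := Transfer.inf_commutator_inf_center_le_of_hall P.card_coprime_index
    rw [hc, inf_top_eq] at this
    exact this.trans h.commutator_le
  have hn := qs_quotient_center_not_isMulCommutative hq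
  have hf := QuotientGroup.mk'_surjective (center G)
  have h2 := card_map_mk'_mul_card_inf (P : Subgroup G) (center G)
  by_cases hz : z ∈ center G
  · have hab := h.comm_map hf ((QuotientGroup.eq_one_iff z).2 hz)
    have hg : Good (G ⧸ center G) := astar_of_ab2 WCor.inputs (abelian_sylow_of_one _ hab) |>.2
      ⊤ _ (Subgroup.subtype _) (fun x => ⟨⟨x, mem_top x⟩, rfl⟩) hq.2 hn
    obtain ⟨T, hT⟩ := hg.tr (P.mapSurjective hf)
    have h3 : Zp P = (P : Subgroup G) ⊓ center G := by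
      refine le_antisymm (fun c hc => ⟨hc.1, ?_⟩)
        (inf_le_inf_left _ (center_le_centralizer _))
      by_contra e
      apply hna
      refine isMulCommutative_iff_forall.2 fun a ha b hb => ?_
      by_cases e1 : b ∈ center G
      · exact mem_center_iff.1 e1 a
      obtain ⟨y, hy, e2⟩ := hT.trans _ ⟨c, hc.1, rfl⟩ (mt (QuotientGroup.eq_one_iff c).1 e) _
        ⟨b, hb, rfl⟩ (mt (QuotientGroup.eq_one_iff b).1 e1)
      obtain ⟨n, hn, rfl⟩ := exists_lift_normalizer P hf (hT.le_norm hy)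
      rw [← map_inv, ← map_mul, ← map_mul, QuotientGroup.mk'_eq_mk'] at e2
      obtain ⟨w, hw, rfl⟩ := e2
      rw [← mul_assoc, (conj_mem_Zp hn hc).2 a ha, mul_assoc, mem_center_iff.1 hw a,
        ← mul_assoc]
    have h4 := card_mul_relIndex' (H := Zp P) (inf_le_left : Zp P ≤ P)
    rw [hZ, h3] at h4
    rw [le_antisymm h1 (zpowers_le.2 ⟨h.mem.1, hz⟩), h.card_zpowers] at h2 h4
    exact ⟨h4.symm, Or.inr (Or.inr (hg.four (P.mapSurjective hf) (by
      rw [Sylow.coe_mapSurjective]; omega)).2)⟩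
  have h3 : (P : Subgroup G) ⊓ center G = ⊥ := eq_bot_iff.2 fun x hx =>
    (h.eq_of_mem_zpowers (h1 hx)).resolve_right fun e => hz (e ▸ hx.2)
  obtain ⟨h4, h5⟩ := simple_case hq.2 hn (h.map hf (mt (QuotientGroup.eq_one_iff z).1 hz))
  rw [h3, card_bot, mul_one] at h2
  refine ⟨h2.symm.trans h4, ?_⟩
  rcases h5 with h5 | ⟨⟨e⟩⟩
  · exact Or.inr (Or.inr h5)
  have hk : (e.toMonoidHom.comp (QuotientGroup.mk' (center G))).ker = center G := by
    rw [← MonoidHom.comap_ker, (MonoidHom.ker_eq_bot_iff _).2 e.injective, MonoidHom.comap_bot,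
      QuotientGroup.ker_mk']
  obtain ⟨π, hπ⟩ := Schur.exists_surj_ker (Cfsg.Agent.S2116.result 7 (Or.inr rfl))
    (σ := e.toMonoidHom.comp (QuotientGroup.mk' (center G)))
    ⟨e.surjective.comp hf, hk.le, hc ▸ le_top⟩
  have h6 := card_dvd_of_surjective π hπ
  rw [hk, Nat.card_congr Multiplicative.toAdd, Nat.card_zmod] at h6
  have h7 := Transfer.not_dvd_card_of_inf_sylow_eq_bot P (center G) ((inf_comm _ _).trans h3)
  obtain h8 | h8 : Nat.card (center G) = 1 ∨ Nat.card (center G) = 3 := by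
    have := Nat.le_of_dvd (by norm_num) h6
    generalize Nat.card (center G) = m at *
    interval_cases m <;> simp at h6 h7 ⊢
  · exact Or.inl ⟨MulEquiv.ofBijective (e.toMonoidHom.comp (QuotientGroup.mk' (center G)))
      ⟨(MonoidHom.ker_eq_bot_iff _).1 (hk.trans (card_eq_one.1 h8)), e.surjective.comp hf⟩⟩
  · exact Or.inr (Or.inl ⟨h8, ⟨e⟩⟩)

end CfsgLib.Cl2
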