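import Mathlib
import Cfsg.Agent.Lib.Cl2.Four
import Cfsg.Agent.Lib.Cl2.Qs
import Cfsg.Agent.Lib.ChDeg.Deg

/-!
# Groups with exactly `|P|/2` classes of 2-elements
-/

set_option autoImplicit false

namespace CfsgLib.Cl2

open Subgroup Cfsg CfsgLib.Tech CfsgLib.Core CfsgLib.Abel2 CfsgLib.Comp CfsgLib.WAb CfsgLib.Char
open CfsgLib.BrPair (Cz Nz Ce)

universe u

section Count

variable {G : Type*} [Group G] [Finite G]

theorem card_commutator_le (h : Nat.card G ≤ 2 * Nat.card (ConjClasses G)) :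
    Nat.card (_root_.commutator G) < 4 := by
  classical
  have h1 : ∑ χ : IrrCharacter G, charDegree (χ : G → ℂ) ^ 2 = Nat.card G := by
    have := sum_irr_one_sq (G := G)
    simp only [← ChDeg.irr_deg_cast] at this
    exact_mod_cast this
  have h2 := card_linear_irr (G := G)
  rw [Nat.card_eq_fintype_card, Fintype.card_subtype, Finset.card_filter] at h2
  have h3 : ∑ χ : IrrCharacter G, 4 ≤ ∑ χ : IrrCharacter G,
      (charDegree (χ : G → ℂ) ^ 2 + 3 * if (χ : G → ℂ) 1 = 1 then 1 else 0) :=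
    Finset.sum_le_sum fun χ _ => by
      have e1 := ChDeg.deg_pos χ.2
      split_ifs with e
      · nlinarith
      · have e2 := mt (ChDeg.deg_eq_one_iff (irr_isCharacter χ)).1 e
        have : 2 ≤ charDegree (χ : G → ℂ) := by omega
        nlinarith
  rw [Finset.sum_add_distrib, ← Finset.mul_sum, h1, h2, Finset.sum_const, Finset.card_univ,
    ← Nat.card_eq_fintype_card, card_irr_eq_card_conjClasses, smul_eq_mul] at h3
  have h4 := (_root_.commutator G).index_mul_card
  have h5 := Nat.pos_of_ne_zero (_root_.commutator G).index_ne_zero_of_finite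
  by_contra! h6
  nlinarith

/-- the conjugates of `x` in `P` -/
def cl (P : Subgroup G) (x : G) : Set G := {y | y ∈ P ∧ IsConj x y}

/-- the number of classes of 2-elements -/
noncomputable abbrev k2 (G : Type*) [Group G] : ℕ :=
  Nat.card {c : ConjClasses G // ∀ x ∈ c.carrier, ∃ k : ℕ, orderOf x = 2 ^ k}

theorem k2_iff (P : Sylow 2 G) (c : ConjClasses G) :
    (∀ x ∈ c.carrier, ∃ k : ℕ, orderOf x = 2 ^ k) ↔
      ∃ x : ↥(P : Subgroup G), ConjClasses.mk (x : G) = c := by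
  constructor
  · intro h
    obtain ⟨x, rfl⟩ := ConjClasses.mk_surjective c
    obtain ⟨g, -, hg⟩ := (IsSylowIn.of_sylow_top P).exists_conj_mem (mem_top x)
      (Tech.isPGroup_zpowers_iff.2 (h x ConjClasses.mem_carrier_mk))
    exact ⟨⟨_, hg⟩, ConjClasses.mk_eq_mk_iff_isConj.2 (isConj_iff.2 ⟨g, rfl⟩).symm⟩
  · rintro ⟨x, rfl⟩ y hy
    obtain ⟨g, rfl⟩ := isConj_iff.1 (ConjClasses.mk_eq_mk_iff_isConj.1
      (ConjClasses.mem_carrier_iff_mk_eq.1 hy)).symm
    rw [← Tech.isPGroup_zpowers_iff, ← cj_zpowers]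
    exact isPGroup_cj g (isPGroup_zpowers_of_mem P.isPGroup' x.2)

theorem k2_le (P : Sylow 2 G) : k2 G ≤ Nat.card (ConjClasses (P : Subgroup G)) := by
  refine Nat.card_le_card_of_surjective (fun c => ⟨ConjClasses.map (Subgroup.subtype _) c, ?_⟩) ?_
  · obtain ⟨x, rfl⟩ := ConjClasses.mk_surjective c
    exact (k2_iff P _).2 ⟨x, rfl⟩
  · rintro ⟨c, hc⟩
    obtain ⟨x, rfl⟩ := (k2_iff P c).1 hc
    exact ⟨ConjClasses.mk x, rfl⟩

theorem cl_pos {P : Subgroup G} {x : G} (hx : x ∈ P) : 0 < (cl P x).ncard :=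
  (Set.ncard_pos (Set.toFinite _)).2 ⟨x, hx, IsConj.refl x⟩

theorem sum_inv_cl (P : Sylow 2 G) [Fintype (P : Subgroup G)] :
    ∑ x : ↥(P : Subgroup G), (1 / (cl (P : Subgroup G) (x : G)).ncard : ℚ) = k2 G := by
  classical
  let f : ↥(P : Subgroup G) → ConjClasses G := fun x => ConjClasses.mk (x : G)
  have h1 : ∀ x : ↥(P : Subgroup G),
      (cl (P : Subgroup G) (x : G)).ncard = (Finset.univ.filter fun y => f y = f x).card :=
    fun x => by
      rw [← Set.ncard_coe_finset, ← Set.ncard_image_of_injective _ Subtype.val_injective]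
      congr 1
      ext y
      simp only [f, cl, ConjClasses.mk_eq_mk_iff_isConj]
      exact ⟨fun h => ⟨⟨y, h.1⟩, by simpa using h.2.symm, rfl⟩, by
        rintro ⟨y, h, rfl⟩; exact ⟨y.2, IsConj.symm (by simpa using h)⟩⟩
  simp only [h1]
  rw [Finset.sum_comp (fun c => (1 / (Finset.univ.filter fun y => f y = c).card : ℚ)) f,
    Finset.sum_congr rfl (g := fun _ => 1) fun c hc => by
      obtain ⟨x, -, rfl⟩ := Finset.mem_image.1 hc
      rw [nsmul_eq_mul, mul_one_div_cancel]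
      exact_mod_cast (h1 x ▸ cl_pos x.2).ne']
  rw [Finset.sum_const, nsmul_eq_mul, mul_one, k2, Nat.cast_inj, ← Fintype.card_coe,
    ← Nat.card_eq_fintype_card]
  exact Nat.card_congr (Equiv.subtypeEquivRight fun c => by simp [k2_iff P, f])

open scoped _root_.Classical in
omit [Finite G] in
theorem sum_ind {P H : Subgroup G} [Fintype P] (h : H ≤ P) :
    ∑ x : P, (if (x : G) ∈ H then 1 else 0 : ℚ) = Nat.card H := by
  rw [Finset.sum_boole, ← card_subgroupOf_of_le h, Nat.card_eq_fintype_card, Fintype.card_subtype]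
  rfl

omit [Finite G] in
theorem sum_const' {P : Subgroup G} [Fintype P] (c : ℚ) : ∑ _ : P, c = Nat.card P * c := by
  rw [Finset.sum_const, Finset.card_univ, Nat.card_eq_fintype_card, nsmul_eq_mul]

theorem inv_cl_le {P : Subgroup G} {x : G} {m : ℕ} (hm : 0 < m) (h : m ≤ (cl P x).ncard) :
    (1 / (cl P x).ncard : ℚ) ≤ 1 / m :=
  one_div_le_one_div_of_le (by exact_mod_cast hm) (by exact_mod_cast h)

theorem not_small (P : Sylow 2 G) (hk : 2 * k2 G = Nat.card (P : Subgroup G))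
    (h : ∀ x ∈ (P : Subgroup G), (cl P x).ncard ≤ 2) : False := by
  have := Fintype.ofFinite (P : Subgroup G)
  have h1 : ∑ _ : ↥(P : Subgroup G), (1 / 2 : ℚ) <
      ∑ x : ↥(P : Subgroup G), (1 / (cl (P : Subgroup G) (x : G)).ncard : ℚ) :=
    Finset.sum_lt_sum (fun x _ => one_div_le_one_div_of_le (by exact_mod_cast cl_pos x.2)
      (by exact_mod_cast h x x.2)) ⟨1, Finset.mem_univ _, by
        rw [show cl P ((1 : (P : Subgroup G)) : G) = {1} from Set.ext fun y =>
          ⟨fun h => by simpa using h.2.symm, by rintro rfl; exact ⟨one_mem _, IsConj.refl _⟩⟩]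
        norm_num⟩
  rw [sum_inv_cl, sum_const', ← hk] at h1
  push_cast at h1
  linarith

/-- the decomposition of an abelian Sylow 2-subgroup -/
theorem abel_split (P : Sylow 2 G) (hab : IsMulCommutative P) :
    Nat.card ↥((P : Subgroup G) ⊓ pResidual 2 G) =
      ((P : Subgroup G) ⊓ Cz (Nz (P : Subgroup G))).relIndex P ∧
    (Nat.card ↥((P : Subgroup G) ⊓ pResidual 2 G) = 1 ∨
      4 ≤ Nat.card ↥((P : Subgroup G) ⊓ pResidual 2 G)) := by
  have hK := Transfer.pResidual_normal 2 G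
  have h1 := Transfer.commutator_normalizer_inf_centralizer_of_abelian_sylow P hab
  have h2 := Transfer.commutator_normalizer_sup_centralizer_of_abelian_sylow P hab
  rw [← Transfer.pResidual_inf_eq_of_abelian_sylow P hab, inf_comm (pResidual 2 G)] at h1 h2
  constructor
  · have h3 := card_sup_of_le_normalizer_of_disjoint (H := (P : Subgroup G) ⊓ pResidual 2 G)
      (N := (P : Subgroup G) ⊓ Cz (Nz (P : Subgroup G)))
      (fun a ha => centralizer_le_normalizer _
        fun b hb => isMulCommutative_iff_forall.1 hab b hb.1 a ha.1)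
      (eq_bot_iff.2 (h1 ▸ inf_le_inf_left _ inf_le_right))
    rw [h2, ← card_mul_relIndex' (H := (P : Subgroup G) ⊓ Cz (Nz (P : Subgroup G))) inf_le_left,
      mul_comm] at h3
    exact (Nat.eq_of_mul_eq_mul_right Nat.card_pos h3).symm
  · obtain ⟨j, hj⟩ := (P.isPGroup'.to_le (inf_le_left : (P : Subgroup G) ⊓ pResidual 2 G ≤ P)
      ).exists_card_eq
    rcases j with _ | _ | j
    · exact Or.inl hj
    · exfalso
      obtain ⟨w, hw, hw'⟩ := (Nat.card_eq_two_iff' (1 : ↥((P : Subgroup G) ⊓ pResidual 2 G))).1 hj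
      refine hw (Subtype.ext (mem_bot.1 (h1 ▸ ⟨w.2, fun n hn => ?_⟩)))
      exact mul_inv_eq_iff_eq_mul.1 (congrArg Subtype.val (hw' ⟨n * w * n⁻¹,
        conj_mem_of_mem_normalizer hn w.2.1, hK.conj_mem _ w.2.2 n⟩
        fun e => hw (Subtype.ext (by simpa using congrArg Subtype.val e))))
    · exact Or.inr (hj ▸ (Nat.pow_le_pow_right two_pos (by omega) : 2 ^ 2 ≤ _))

theorem cl_le_of_comm (P : Sylow 2 G) (hab : IsMulCommutative P) {x y : G}
    (hx : x ∈ (P : Subgroup G) ⊓ Cz (Nz (P : Subgroup G))) (hy : y ∈ cl P x) : y = x := by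
  obtain ⟨g, rfl⟩ := isConj_iff.1 hy.2
  obtain ⟨u, hu, e⟩ := Transfer.control_of_abelian_sylow P hab x hx.1 g hy.1
  rw [e, hx.2 u hu, mul_inv_cancel_right]

theorem four_of_comm (P : Sylow 2 G) (hk : 2 * k2 G = Nat.card (P : Subgroup G))
    (hab : IsMulCommutative P) : Nat.card ↥((P : Subgroup G) ⊓ pResidual 2 G) = 4 := by
  classical
  have := Fintype.ofFinite (P : Subgroup G)
  obtain ⟨h1, h2⟩ := abel_split P hab
  set F := (P : Subgroup G) ⊓ Cz (Nz (P : Subgroup G))
  rcases h2 with h2 | h2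
  · refine (not_small P hk fun x hx => ?_).elim
    rw [h1, relIndex_eq_one] at h2
    exact (Set.ncard_le_ncard (t := {x}) (fun y hy => cl_le_of_comm P hab (h2 hx) hy)).trans
      (by simp)
  have h3 : ∑ x : ↥(P : Subgroup G), (1 / (cl (P : Subgroup G) (x : G)).ncard : ℚ) ≤
      ∑ x : ↥(P : Subgroup G), (1 / 3 + 2 / 3 * if (x : G) ∈ F then 1 else 0 : ℚ) :=
    Finset.sum_le_sum fun x _ => by
      split_ifs with e
      · exact (inv_cl_le one_pos (cl_pos x.2)).trans (by norm_num)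
      refine (inv_cl_le three_pos (le_trans ?_ (Set.ncard_le_ncard (s := orb (Nz (P : Subgroup G)) (x : G)) ?_))).trans
        (by norm_num)
      · rw [ncard_orb]
        have a1 : ¬ 2 ∣ (Ce (x : G)).relIndex (Nz (P : Subgroup G)) := fun h =>
          (IsSylowIn.of_sylow P le_normalizer).not_dvd (h.trans
            (relIndex_dvd_of_le_left _ ((le_Cz_of_comm hab).trans (Cz_le_Ce x.2))))
        have a2 : (Ce (x : G)).relIndex (Nz (P : Subgroup G)) ≠ 1 := fun h =>
          e ⟨x.2, fun n hn => mem_centralizer_singleton_iff.1 (relIndex_eq_one.1 h hn)⟩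
        change 3 ≤ (Ce (x : G)).relIndex (Nz (P : Subgroup G))
        omega
      · rintro _ ⟨n, hn, rfl⟩
        exact ⟨conj_mem_of_mem_normalizer hn x.2, isConj_iff.2 ⟨n, rfl⟩⟩
  rw [sum_inv_cl, Finset.sum_add_distrib, ← Finset.mul_sum, sum_ind inf_le_left, sum_const'] at h3
  have h4 := card_mul_relIndex' (H := F) inf_le_left
  rw [← h1] at h4
  have h5 : Nat.card (P : Subgroup G) ≤ Nat.card F * 4 := by
    rw [← hk] at h3 ⊢
    push_cast at h3
    exact_mod_cast (by linarith : (2 * k2 G : ℚ) ≤ Nat.card F * 4)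
  exact le_antisymm (Nat.le_of_mul_le_mul_left (h4 ▸ h5) Nat.card_pos) h2

variable {P : Sylow 2 G} {z : G}

theorem Cfg.not_center (h : Cfg P z) (hk : 2 * k2 G = Nat.card (P : Subgroup G)) :
    z ∉ center G := fun hz => by
  classical
  have := Fintype.ofFinite (P : Subgroup G)
  have hn : (zpowers z).Normal := normal_of_le_center (zpowers_le.2 hz)
  let f := QuotientGroup.mk' (zpowers z)
  have hf : Function.Surjective f := QuotientGroup.mk'_surjective _
  have hab := h.comm_map hf ((QuotientGroup.eq_one_iff z).2 (mem_zpowers z))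
  have key : ∀ x y, f x = f y → y = x ∨ y = z * x := fun x y e => by
    obtain ⟨w, hw, rfl⟩ := (QuotientGroup.mk'_eq_mk' _).1 e
    refine (h.eq_of_mem_zpowers hw).imp (fun e => ?_) fun e => ?_
    · rw [e, mul_one]
    · rw [e, mem_center_iff.1 hz]
  obtain ⟨h1, h2⟩ := abel_split _ hab
  set F := (P : Subgroup G) ⊓ (Cz (Nz ((P : Subgroup G).map f))).comap f with hF
  have h3 : ((P : Subgroup G).map f ⊓ Cz (Nz ((P : Subgroup G).map f))).relIndex
      ((P : Subgroup G).map f) = F.relIndex P := by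
    rw [hF, inf_relIndex_left, inf_relIndex_left, relIndex_comap]
  rw [h1.trans h3] at h2
  rcases h2 with h2 | h2
  · refine not_small P hk fun x hx => ?_
    refine (Set.ncard_le_ncard (fun y hy => ?_) (Set.toFinite {x, z * x})).trans
      ((Set.ncard_insert_le _ _).trans (by simp))
    exact key _ _ (cl_le_of_comm _ hab ⟨⟨x, hx, rfl⟩, (relIndex_eq_one.1 h2 hx).2⟩
      ⟨⟨y, hy.1, rfl⟩, f.map_isConj hy.2⟩).symm
  have a1 : ∀ x ∈ (P : Subgroup G), x ∉ Zp P → IsConj x (z * x) := fun x hx hx' => by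
    obtain ⟨s, hs, e⟩ := not_forall₂.1 fun e => hx' ⟨hx, e⟩
    exact isConj_iff.2 ⟨s, h.conj_eq hs hx e⟩
  have a2 : ∀ x ∈ (P : Subgroup G), x ∉ F → ∃ n ∈ Nz (P : Subgroup G),
      f (n * x * n⁻¹) ≠ f x := fun x hx hx' => by
    obtain ⟨y, hy, e⟩ := not_forall₂.1 fun e => hx' ⟨hx, e⟩
    obtain ⟨n, hn, rfl⟩ := exists_lift_normalizer P hf hy
    exact ⟨n, hn, fun e' => e (by rwa [map_mul, map_mul, map_inv, mul_inv_eq_iff_eq_mul] at e')⟩
  have a3 : ∀ x, f (z * x) = f x := fun x => by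
    rw [map_mul, show f z = 1 from (QuotientGroup.eq_one_iff z).2 (mem_zpowers z), one_mul]
  have h4 : ∑ x : ↥(P : Subgroup G), (1 / (cl (P : Subgroup G) (x : G)).ncard : ℚ) ≤
      ∑ x : ↥(P : Subgroup G), (1 / 4 + 1 / 4 * (if (x : G) ∈ F then 1 else 0) +
        1 / 2 * if (x : G) ∈ Zp P then 1 else 0 : ℚ) :=
    Finset.sum_le_sum fun x _ => by
      split_ifs with e1 e2 e2
      · exact (inv_cl_le one_pos (cl_pos x.2)).trans (by norm_num)
      · refine (inv_cl_le two_pos ?_).trans (by norm_num)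
        refine (Set.ncard_pair (h.zmul_ne x)).ge.trans (Set.ncard_le_ncard ?_)
        rintro _ (rfl | rfl)
        · exact ⟨mul_mem h.mem.1 x.2, a1 x x.2 e2⟩
        · exact ⟨x.2, IsConj.refl _⟩
      · obtain ⟨n, hn, e⟩ := a2 x x.2 e1
        refine (inv_cl_le two_pos ?_).trans (by norm_num)
        refine (Set.ncard_pair (fun e' => e (congrArg f e'))).ge.trans (Set.ncard_le_ncard ?_)
        rintro _ (rfl | rfl)
        · exact ⟨conj_mem_of_mem_normalizer hn x.2, isConj_iff.2 ⟨n, rfl⟩⟩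
        · exact ⟨x.2, IsConj.refl _⟩
      · obtain ⟨n, hn, e⟩ := a2 x x.2 e1
        have b1 := conj_mem_of_mem_normalizer hn x.2
        refine (inv_cl_le four_pos ?_).trans (by norm_num)
        have b2 : ({z * x, (x : G)} ∪ {z * (n * x * n⁻¹), n * x * n⁻¹} : Set G).ncard = 4 := by
          rw [Set.ncard_union_eq (Set.disjoint_left.2 ?_), Set.ncard_pair (h.zmul_ne _),
            Set.ncard_pair (h.zmul_ne _)]
          rintro _ (rfl | rfl) (e' | e') <;> apply e <;>
            simpa only [a3] using (congrArg f e').symm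
        rw [← b2]
        refine Set.ncard_le_ncard ?_
        rintro _ ((rfl | rfl) | rfl | rfl)
        · exact ⟨mul_mem h.mem.1 x.2, a1 x x.2 e2⟩
        · exact ⟨x.2, IsConj.refl _⟩
        · refine ⟨mul_mem h.mem.1 b1, (isConj_iff.2 ⟨n, rfl⟩).trans (a1 _ b1 fun e' => e2 ?_)⟩
          simpa [mul_assoc] using conj_mem_Zp (inv_mem hn) e'
        · exact ⟨b1, isConj_iff.2 ⟨n, rfl⟩⟩
  rw [sum_inv_cl, Finset.sum_add_distrib, Finset.sum_add_distrib, ← Finset.mul_sum,
    ← Finset.mul_sum, sum_ind inf_le_left, sum_ind inf_le_left, sum_const'] at h4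
  have h5 : Nat.card F * 4 ≤ Nat.card (P : Subgroup G) :=
    card_mul_relIndex' (H := F) inf_le_left ▸ Nat.mul_le_mul_left _ h2
  have h6 : Nat.card (Zp P) * 4 ≤ Nat.card (P : Subgroup G) := by
    obtain ⟨a, ha, t, ht, e⟩ := h.ex
    have ht' : t ∉ Zp P := fun e' => h.zmul_ne t (by rw [← e, e'.2 a ha]; group)
    have c1 := card_mul_relIndex' (H := Ap P t) inf_le_left
    have c2 := card_mul_relIndex' (Zp_le_Ap ht)
    have c3 : (Zp P).relIndex (Ap P t) ≠ 1 := fun e' => ht' (relIndex_eq_one.1 e' (self_mem_Ap ht))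
    have c4 : (Zp P).relIndex (Ap P t) ≠ 0 := index_ne_zero_of_finite
    rw [h.relIndex_Ap ht ht'] at c1
    have := Nat.mul_le_mul_left (Nat.card (Zp P)) (show 2 ≤ (Zp P).relIndex (Ap P t) by omega)
    omega
  have h7 := Nat.card_pos (α := (P : Subgroup G))
  rw [← hk] at h4 h5 h6 h7
  have h5' : (Nat.card F * 4 : ℚ) ≤ 2 * k2 G := by exact_mod_cast h5
  have h6' : (Nat.card (Zp P) * 4 : ℚ) ≤ 2 * k2 G := by exact_mod_cast h6
  have h7' : (0 : ℚ) < 2 * k2 G := by exact_mod_cast h7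
  push_cast at h4
  linarith

theorem NI.four_res (h : NI P z) (hk : 2 * k2 G = Nat.card (P : Subgroup G)) :
    z ∈ pResidual 2 G ∧ Nat.card ↥((P : Subgroup G) ⊓ pResidual 2 G) = 4 := by
  classical
  have := Fintype.ofFinite (P : Subgroup G)
  have hK := Transfer.pResidual_normal 2 G
  obtain ⟨t, k, ha⟩ := h.exists_act
  have hzt : z ≠ t := fun e => ha.nmem (e ▸ h.mem)
  have ht1 : t ≠ 1 := fun e => ha.nmem (e ▸ one_mem _)
  have b1 : IsConj z t := isConj_iff.2 ⟨k, ha.eq⟩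
  have b2 : IsConj z (z * t) := b1.trans (by simpa using h.isConj_zt ha (one_mem _))
  have hc : ∀ w, IsConj z w → QuotientGroup.mk' (pResidual 2 G) w =
      QuotientGroup.mk' (pResidual 2 G) z := fun w hw => by
    obtain ⟨g, rfl⟩ := isConj_iff.1 hw
    obtain ⟨a, ha, b, hb, rfl⟩ := (mem_sup_of_le_normalizer_left le_normalizer_of_normal).1
      (Transfer.pResidual_sup_sylow P ▸ mem_top g : g ∈ pResidual 2 G ⊔ P)
    rw [show a * b * z * (a * b)⁻¹ = a * (b * z * b⁻¹) * a⁻¹ by group,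
      h.norm_fix (le_normalizer hb)]
    simp [(QuotientGroup.eq_one_iff a).2 ha]
  have htK : t ∈ pResidual 2 G := by
    have := hc _ b2
    rw [map_mul, mul_eq_left] at this
    exact (QuotientGroup.eq_one_iff t).1 this
  have hzK : z ∈ pResidual 2 G :=
    (QuotientGroup.eq_one_iff z).1 ((hc _ b1).symm.trans ((QuotientGroup.eq_one_iff t).2 htK))
  refine ⟨hzK, ?_⟩
  let V := zpowers t ⊔ zpowers z
  have hz : z ∈ V := mem_sup_right (mem_zpowers _)
  have ht : t ∈ V := mem_sup_left (mem_zpowers _)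
  have hV : Nat.card V = 4 := by
    rw [card_sup_of_le_normalizer_of_disjoint (zpowers_le.2 (mem_normalizer_of_cj_le (by
      rw [cj_zpowers, h.norm_fix (le_normalizer ha.mem)]))) (eq_bot_iff.2 fun x hx => ?_),
      h.card_zpowers, Nat.card_zpowers, orderOf_eq_prime (by rw [_root_.sq, h.act_sq ha]) ht1]
    rcases h.eq_of_mem_zpowers hx.2 with e | e
    · exact e
    · exact ((Gold.MainAux.mem_zpowers_invol (h.act_sq ha) hx.1).resolve_right
        fun e' => hzt (e.symm.trans e'))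
  have hVP : V ≤ P := sup_le (zpowers_le.2 ha.mem) (zpowers_le.2 h.mem.1)
  let C := Zp P ⊓ cj k (Zp P)
  have hCA : C ≤ Ap P t := inf_le_left.trans (Zp_le_Ap ha.mem)
  let m : G → ℕ := fun x => if x ∈ C then 1 else if x ∈ Ap P t then 3 else 2
  have key : ∀ x ∈ (P : Subgroup G), ∃ S ⊆ cl P x, S.ncard = m x ∧ ∀ y ∈ S, x⁻¹ * y ∈ V := by
    intro x hx
    simp only [m]
    split_ifs with e1 e2
    · exact ⟨{x}, by rintro _ rfl; exact ⟨hx, IsConj.refl _⟩, by simp, by rintro _ rfl; simp⟩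
    · obtain ⟨c, hc, e⟩ : ∃ c ∈ C, x = z * c ∨ x = t * c ∨ x = z * t * c := by
        by_cases e3 : x ∈ Zp P
        · exact ⟨z * x, ⟨mul_mem h.mem e3, mem_cj.2 ((h.split ha e3).resolve_left
            fun e => e1 ⟨e3, mem_cj.2 e⟩)⟩, Or.inl (by rw [← mul_assoc, h.sq, one_mul])⟩
        have e4 := h.four ha.mem ha.nmem e2 e3
        have e5 : x = t * (x * t) := by rw [e4.2 t ha.mem, mul_assoc, h.act_sq ha, mul_one]
        rcases h.split ha e4 with e | e
        · exact ⟨_, ⟨e4, mem_cj.2 e⟩, Or.inr (Or.inl e5)⟩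
        · refine ⟨_, ⟨mul_mem h.mem e4, mem_cj.2 e⟩, Or.inr (Or.inr ?_)⟩
          rw [← mul_assoc, mul_assoc z, h.mem.2 t ha.mem, ← mul_assoc z z, h.sq, one_mul, ← e5]
      have c1 := h.isConj_core ha hc.1 (mem_cj.1 hc.2)
      have c2 := h.isConj_zt ha hc.1
      have c3 : IsConj x (t * c) := by
        rcases e with rfl | rfl | rfl
        exacts [c1, IsConj.refl _, c2.symm]
      have c4 : ∃ v ∈ V, x = v * c := by
        rcases e with rfl | rfl | rfl
        exacts [⟨_, hz, rfl⟩, ⟨_, ht, rfl⟩, ⟨_, mul_mem hz ht, rfl⟩]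
      refine ⟨{z * c, t * c, z * t * c}, ?_, Set.ncard_eq_three.2 ⟨_, _, _, by simpa using hzt,
        by simpa using ht1, by simpa using h.ne, rfl⟩, ?_⟩
      · rintro _ (rfl | rfl | rfl)
        · exact ⟨mul_mem h.mem.1 hc.1.1, c3.trans c1.symm⟩
        · exact ⟨mul_mem ha.mem hc.1.1, c3⟩
        · exact ⟨mul_mem (mul_mem h.mem.1 ha.mem) hc.1.1, c3.trans c2⟩
      · obtain ⟨v, hv, rfl⟩ := c4
        have c5 : ∀ w ∈ V, (v * c)⁻¹ * (w * c) ∈ V := fun w hw => by
          rw [show (v * c)⁻¹ * (w * c) = c⁻¹ * (v⁻¹ * w * c) by group,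
            hc.1.2 _ (hVP (mul_mem (inv_mem hv) hw)), inv_mul_cancel_left]
          exact mul_mem (inv_mem hv) hw
        rintro _ (rfl | rfl | rfl)
        exacts [c5 _ hz, c5 _ ht, c5 _ (mul_mem hz ht)]
    · refine ⟨{z * x, x}, ?_, Set.ncard_pair (h.zmul_ne x), ?_⟩
      · rintro _ (rfl | rfl)
        · exact ⟨mul_mem h.mem.1 hx, isConj_iff.2 ⟨t, h.conj_eq ha.mem hx
            fun e => e2 (mem_Ap.2 ⟨hx, e.symm⟩)⟩⟩
        · exact ⟨hx, IsConj.refl _⟩
      · rintro _ (rfl | rfl)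
        · rwa [← h.mem.2 x hx, inv_mul_cancel_left]
        · simp
  have hm : ∀ x, 0 < m x := fun x => by simp only [m]; split_ifs <;> norm_num
  have h1 : ∑ x : ↥(P : Subgroup G), (1 / m x : ℚ) = k2 G := by
    rw [Finset.sum_congr rfl (g := fun x : ↥(P : Subgroup G) => (1 / 2 - 1 / 6 *
      (if (x : G) ∈ Ap P t then 1 else 0) + 2 / 3 * if (x : G) ∈ C then 1 else 0 : ℚ))
      fun x _ => by
        simp only [m]
        by_cases e1 : (x : G) ∈ C
        · rw [if_pos e1, if_pos e1, if_pos (hCA e1)]; norm_num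
        · rw [if_neg e1, if_neg e1]; split_ifs <;> norm_num,
      Finset.sum_add_distrib, Finset.sum_sub_distrib, ← Finset.mul_sum, ← Finset.mul_sum,
      sum_ind inf_le_left, sum_ind (hCA.trans inf_le_left), sum_const', ← hk]
    have c2 := card_mul_relIndex' (Zp_le_Ap ha.mem)
    have c3 := card_mul_relIndex' (H := C) inf_le_left
    rw [h.relIndex_Zp ha.mem ha.nmem] at c2
    rw [(relIndex_eq_two_iff_exists_notMem_and (H := C)).2 ⟨z, h.mem, fun e => h.act_inv_nmem ha
      (mem_cj.1 e.2), fun b hb => (h.split ha hb).symm.imp (fun e => ⟨mul_mem hb h.mem, mem_cj.2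
        (h.mem.2 b hb.1 ▸ e)⟩) fun e => ⟨hb, mem_cj.2 e⟩⟩] at c3
    change _ - _ * (Nat.card (Ap P t) : ℚ) + _ = _
    rw [← c2, ← c3]
    push_cast
    ring
  have h2 := (Finset.sum_eq_sum_iff_of_le fun (x : ↥(P : Subgroup G)) _ => inv_cl_le (hm x) (by
    obtain ⟨S, a1, a2, -⟩ := key x x.2
    exact a2 ▸ Set.ncard_le_ncard a1)).1 ((sum_inv_cl P).trans h1.symm)
  rw [← hV]
  refine congrArg (fun X : Subgroup G => Nat.card X) (le_antisymm ?_
    (le_inf hVP (sup_le (zpowers_le.2 htK) (zpowers_le.2 hzK))))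
  rw [inf_comm]
  refine (Transfer.pResidual_inf_sylow_le_focalSubgroup P).trans
    (Transfer.focalSubgroup_le_iff.2 fun x hx g hg => ?_)
  obtain ⟨S, a1, a2, a3⟩ := key x hx
  have a4 := h2 ⟨x, hx⟩ (Finset.mem_univ _)
  rw [one_div, one_div, inv_inj, Nat.cast_inj] at a4
  exact a3 _ ((Set.eq_of_subset_of_ncard_le a1 (a4.trans a2.symm).le).ge
    ⟨hg, isConj_iff.2 ⟨g, rfl⟩⟩)

theorem exists_cfg_of_k2 (P : Sylow 2 G) (hk : 2 * k2 G = Nat.card (P : Subgroup G))
    (hna : ¬ IsMulCommutative (P : Subgroup G)) : ∃ z, Cfg P z := by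
  have h1 := card_commutator_le (G := (P : Subgroup G)) (hk ▸ Nat.mul_le_mul_left 2 (k2_le P))
  obtain ⟨j, hj⟩ := (P.isPGroup'.to_subgroup (_root_.commutator (P : Subgroup G))).exists_card_eq
  obtain ⟨a, ha, b, hb, e⟩ : ∃ a ∈ (P : Subgroup G), ∃ b ∈ (P : Subgroup G), a * b ≠ b * a := by
    by_contra! h
    exact hna (isMulCommutative_iff_forall.2 h)
  let c : ∀ x ∈ (P : Subgroup G), ∀ y ∈ (P : Subgroup G), _root_.commutator (P : Subgroup G) :=
    fun x hx y hy => ⟨_, commutator_mem_commutator (mem_top ⟨x, hx⟩) (mem_top ⟨y, hy⟩)⟩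
  have hc : ∀ x hx y hy, x * y ≠ y * x → c x hx y hy ≠ 1 := fun x hx y hy e1 e2 => e1 (by
    have : x * y * x⁻¹ * y⁻¹ = 1 := congrArg (fun w => ((w.1 : (P : Subgroup G)) : G)) e2
    rwa [mul_inv_eq_one, mul_inv_eq_iff_eq_mul] at this)
  have h2 : Nat.card (_root_.commutator (P : Subgroup G)) = 2 := by
    rcases j with _ | _ | j
    · exact absurd ((Nat.card_eq_one_iff_unique.1 hj).1.elim _ _) (hc a ha b hb e)
    · exact hj
    · exact absurd (hj ▸ (Nat.pow_le_pow_right two_pos (by omega) : 2 ^ 2 ≤ _)) (not_le.2 h1)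
  obtain ⟨w, -, hw⟩ := (Nat.card_eq_two_iff' 1).1 h2
  refine ⟨a * b * a⁻¹ * b⁻¹, fun h => e (by rwa [mul_inv_eq_one, mul_inv_eq_iff_eq_mul] at h),
    fun x hx y hy => or_iff_not_imp_left.2 fun e3 => ?_, a, ha, b, hb, by group⟩
  rw [← mul_inv_eq_iff_eq_mul]
  exact congrArg (fun w => ((w.1 : (P : Subgroup G)) : G))
    ((hw _ (hc x hx y hy e3)).trans (hw _ (hc a ha b hb e)).symm)

end Count

theorem half_main {G : Type u} [Group G] [Finite G] (P : Sylow 2 G) (hO : pPrimeCore 2 G = ⊥)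
    (hk : 2 * k2 G = Nat.card (P : Subgroup G)) : Concl (G ⧸ center G) := by
  by_cases hab : IsMulCommutative (P : Subgroup G)
  · exact concl_of_four hO P (four_of_comm P hk hab) fun W _ hW _ => hW.trans (le_Cz_of_comm hab)
  obtain ⟨z, h⟩ := exists_cfg_of_k2 P hk hab
  have hni : NI P z := ⟨h, by
    by_contra! h1
    exact h.not_center hk (ZStarApp.mem_center_of_weaklyClosed hO P h.mem.1 h1)⟩
  obtain ⟨h1, h2⟩ := hni.four_res hk
  refine concl_of_four hO P h2 fun W hn hW h3 w hw a ha => ?_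
  refine (h.comm a ha w (hW hw)).resolve_right fun e => h.ne (mem_bot.1 (h3 ▸ ⟨?_, h1⟩))
  rw [← mul_inv_eq_iff_eq_mul] at e
  have := mul_mem (hn.conj_mem w hw a) (inv_mem hw)
  rwa [e] at this

end CfsgLib.Cl2
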